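import Cfsg.Agent.H59.HalfPSL
import Cfsg.Agent.S0345
import Cfsg.Agent.H37.SmallIsoBase

/-!
Half degree (helper15): a group of order `p * e * (p + 1)`, `p = 2 * e + 1`, with `p + 1`
self-centralizing Sylow subgroups of order `p`, generated by its elements of order `p`, is
`PSL(2, p)`.
-/

set_option autoImplicit false

open Subgroup MulAction
open scoped Pointwise

namespace H15.HalfDeg

universe u

variable {K : Type u} [Group K] [Finite K] {p e : ℕ} [hp : Fact p.Prime]

/-- An element with `g ^ p = 1` lies in a Sylow subgroup. -/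
theorem exists_sylow_mem {g : K} (hg : g ^ p = 1) : ∃ R : Sylow p K, g ∈ (R : Subgroup K) := by
  have hg' : IsPGroup p (zpowers g) := fun y => by
    obtain ⟨i, hi⟩ := mem_zpowers_iff.1 y.2
    refine ⟨1, Subtype.ext ?_⟩
    rw [pow_one, SubmonoidClass.coe_pow, ← hi, ← zpow_natCast, ← zpow_mul, mul_comm, zpow_mul,
      zpow_natCast, hg, one_zpow, OneMemClass.coe_one]
  obtain ⟨R, hR⟩ := hg'.exists_le_sylow
  exact ⟨R, hR (mem_zpowers g)⟩

/-- Recognition of `PSL(2, p)` from its Sylow subgroups. -/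
theorem psl_of_sylow (he : 2 ≤ e) (hpe : 2 * e + 1 = p) (P : Sylow p K) (hP : Nat.card P = p)
    (hC : ∀ c, c ∈ centralizer ((P : Subgroup K) : Set K) → c ∈ (P : Subgroup K))
    (hcard : Nat.card K = p * e * (p + 1)) (hn : Nat.card (Sylow p K) = p + 1)
    (hgen : closure {g : K | g ^ p = 1} = ⊤) :
    Nonempty (K ≃* Matrix.ProjectiveSpecialLinearGroup (Fin 2) (ZMod p)) := by
  classical
  letI : Fintype (Sylow p K) := Fintype.ofFinite _
  have hstab : ∀ R : Sylow p K, stabilizer K R = normalizer ((R : Subgroup K) : Set K) :=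
    fun R => R.stabilizer_eq_normalizer
  have hcardQ : ∀ Q : Sylow p K, Nat.card Q = p := fun Q => by
    rw [Q.card_eq_multiplicity, ← P.card_eq_multiplicity, hP]
  -- elements of `P` fix no other Sylow subgroup
  have hfix : ∀ x ∈ (P : Subgroup K), ∀ Q : Sylow p K, x • Q = Q → x = 1 ∨ Q = P := by
    intro x hx Q hQ
    by_cases hx1 : x = 1
    · exact Or.inl hx1
    refine Or.inr (Sylow.ext ?_)
    have hxN : x ∈ normalizer ((Q : Subgroup K) : Set K) := by
      rw [← hstab]; exact hQ
    have hxp : IsPGroup p (zpowers x) := by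
      refine IsPGroup.to_le P.2 ?_
      rwa [zpowers_le]
    have hxQ : x ∈ (Q : Subgroup K) :=
      (mem_inf.1 ((SetLike.ext_iff.1 (hxp.inf_normalizer_sylow Q) x).1
        (mem_inf.2 ⟨mem_zpowers x, hxN⟩))).2
    have hgenP : ∀ R : Sylow p K, x ∈ (R : Subgroup K) → zpowers x = (R : Subgroup K) := by
      intro R hR
      refine eq_of_le_of_card_ge (zpowers_le.2 hR) ?_
      rw [show Nat.card (R : Subgroup K) = p from hcardQ R, Nat.card_zpowers,
        orderOf_eq_prime (p := p) ?_ hx1]
      have h := pow_card_eq_one' (G := (R : Subgroup K)) (x := ⟨x, hR⟩)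
      rw [show Nat.card (R : Subgroup K) = p from hcardQ R] at h
      exact congrArg Subtype.val h
    exact (hgenP Q hxQ).symm.trans (hgenP P hx)
  -- `P` is transitive on the others
  have htrans : ∀ Q R : Sylow p K, Q ≠ P → R ≠ P → ∃ x ∈ (P : Subgroup K), x • Q = R := by
    intro Q R hQ hR
    let φ : ↥(P : Subgroup K) → {R : Sylow p K // R ≠ P} := fun x => ⟨(x : K) • Q, fun h => hQ (by
      have hxP : (x : K)⁻¹ • P = P := by
        rw [← mem_stabilizer_iff, hstab]
        exact le_normalizer (inv_mem x.2)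
      exact (inv_smul_smul (x : K) Q).symm.trans ((congrArg (((x : K)⁻¹) • ·) h).trans hxP))⟩
    have hinj : Function.Injective φ := fun x y h => by
      have h' : (x : K) • Q = (y : K) • Q := congrArg Subtype.val h
      rcases hfix ((y : K)⁻¹ * x) (mul_mem (inv_mem y.2) x.2) Q
        (by rw [mul_smul, h', inv_smul_smul]) with h1 | h1
      · exact Subtype.ext (inv_mul_eq_one.1 h1).symm
      · exact absurd h1 hQ
    have hbij := (Nat.bijective_iff_injective_and_card φ).2 ⟨hinj, by
      rw [show Nat.card (P : Subgroup K) = p from hP, Nat.card_eq_fintype_card,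
        Fintype.card_subtype_compl, Fintype.card_subtype_eq, ← Nat.card_eq_fintype_card, hn]
      omega⟩
    obtain ⟨x, hx⟩ := hbij.2 ⟨R, hR⟩
    exact ⟨x, x.2, congrArg Subtype.val hx⟩
  haveI : Nontrivial (Sylow p K) := Finite.one_lt_card_iff_nontrivial.1
    (by rw [hn]; have := hp.out.pos; omega)
  obtain ⟨Q, hQ⟩ := exists_ne P
  set H := stabilizer K P ⊓ stabilizer K Q with hH
  have hcardH : Nat.card H = e := by
    let μ : ↥(P : Subgroup K) × ↥H → ↥(stabilizer K P) := fun xh => ⟨(xh.1 : K) * (xh.2 : K),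
      mul_mem (by rw [hstab]; exact le_normalizer xh.1.2)
        (mem_inf.1 xh.2.2).1⟩
    have hbij : Function.Bijective μ := by
      constructor
      · rintro ⟨x, h⟩ ⟨y, k⟩ e'
        have e1 : (x : K) * h = y * k := congrArg Subtype.val e'
        have e2 : (y : K)⁻¹ * x = (k : K) * (h : K)⁻¹ := by
          rw [eq_mul_inv_iff_mul_eq, mul_assoc, e1, inv_mul_cancel_left]
        have e3 : ((y : K)⁻¹ * x) • Q = Q := by
          rw [e2, mul_smul, show (h : K)⁻¹ • Q = Q from
            inv_smul_eq_iff.2 (mem_inf.1 h.2).2.symm]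
          exact (mem_inf.1 k.2).2
        rcases hfix _ (mul_mem (inv_mem y.2) x.2) Q e3 with h1 | h1
        · have hxy : x = y := Subtype.ext (inv_mul_eq_one.1 h1).symm
          subst hxy
          exact Prod.ext rfl (Subtype.ext (mul_left_cancel e1))
        · exact absurd h1 hQ
      · rintro ⟨g, hg⟩
        have hgQ : g • Q ≠ P := fun h => hQ (MulAction.injective g (h.trans hg.symm))
        obtain ⟨x, hx, hxQ⟩ := htrans Q (g • Q) hQ hgQ
        refine ⟨(⟨x, hx⟩, ⟨x⁻¹ * g, mem_inf.2 ⟨mul_mem (inv_mem ?_) hg, ?_⟩⟩), Subtype.ext ?_⟩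
        · rw [hstab]; exact le_normalizer hx
        · rw [mem_stabilizer_iff, mul_smul, ← hxQ, inv_smul_smul]
        · simp [μ]
    have h1 := Nat.card_eq_of_bijective μ hbij
    rw [Nat.card_prod, show Nat.card (P : Subgroup K) = p from hP] at h1
    have h2 := (stabilizer K P).card_mul_index
    rw [hstab, show (normalizer ((P : Subgroup K) : Set K)).index = p + 1 from
      P.card_eq_index_normalizer.symm.trans hn, hcard] at h2
    rw [hstab] at h1
    rw [← h1] at h2
    exact Nat.eq_of_mul_eq_mul_left hp.out.pos (Nat.eq_of_mul_eq_mul_right (by omega) h2)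
  -- three-point stabilisers
  have hthree' : ∀ h ∈ H, ∀ R : Sylow p K, R ≠ P → R ≠ Q → h • R = R → h = 1 := by
    intro h hh R hR hRQ hhR
    obtain ⟨x, hx, hxQ⟩ := htrans Q R hQ hR
    have hhP : h ∈ normalizer ((P : Subgroup K) : Set K) := by
      rw [← hstab]; exact (mem_inf.1 hh).1
    have hz : x⁻¹ * (h * x * h⁻¹) ∈ (P : Subgroup K) :=
      mul_mem (inv_mem hx) ((mem_normalizer_iff.1 hhP x).1 hx)
    have hzQ : (x⁻¹ * (h * x * h⁻¹)) • Q = Q := by
      rw [mul_smul, mul_smul, mul_smul, inv_smul_eq_iff.2 (mem_inf.1 hh).2.symm, hxQ, hhR, ← hxQ,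
        inv_smul_smul]
    rcases hfix _ hz Q hzQ with h1 | h1
    · have hx1 : x ≠ 1 := fun e' => hRQ (by rw [← hxQ, e', one_smul])
      have hcx : Commute h x := by
        have h2 : x = h * x * h⁻¹ := inv_mul_eq_one.1 h1
        exact (eq_mul_inv_iff_mul_eq.1 h2).symm
      have hgenP : zpowers x = (P : Subgroup K) := by
        refine eq_of_le_of_card_ge (zpowers_le.2 hx) ?_
        rw [show Nat.card (P : Subgroup K) = p from hP, Nat.card_zpowers,
          orderOf_eq_prime (p := p) ?_ hx1]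
        have h' := pow_card_eq_one' (G := (P : Subgroup K)) (x := ⟨x, hx⟩)
        rw [show Nat.card (P : Subgroup K) = p from hP] at h'
        exact congrArg Subtype.val h'
      have hmem : h ∈ (P : Subgroup K) := hC h fun y hy => by
        have hy' : y ∈ zpowers x := hgenP ▸ hy
        obtain ⟨i, rfl⟩ := mem_zpowers_iff.1 hy'
        exact (hcx.zpow_right i).eq.symm
      rcases hfix h hmem Q (mem_inf.1 hh).2 with h3 | h3
      · exact h3
      · exact absurd h3 hQ
    · exact absurd h1 hQ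
  have h2t : ∀ a b : Sylow p K, a ≠ b → ∃ g : K, g • a = P ∧ g • b = Q := by
    intro a b hab
    obtain ⟨g, hg⟩ := exists_smul_eq K a P
    have hgb : g • b ≠ P := fun h => hab (MulAction.injective g (hg.trans h.symm))
    obtain ⟨x, hx, hxQ⟩ := htrans (g • b) Q hgb hQ
    refine ⟨x * g, ?_, by rw [mul_smul, hxQ]⟩
    rw [mul_smul, hg, ← mem_stabilizer_iff, hstab]
    exact le_normalizer hx
  have hthree : ∀ g : K, ∀ a b c : Sylow p K, a ≠ b → b ≠ c → a ≠ c → g • a = a → g • b = b →
      g • c = c → g = 1 := by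
    intro g a b c hab hbc hac ha hb hc
    obtain ⟨t, hta, htb⟩ := h2t a b hab
    have key : ∀ z : Sylow p K, g • z = z → (t * g * t⁻¹) • (t • z) = t • z := fun z hz => by
      rw [mul_smul, mul_smul, inv_smul_smul, hz]
    have h1 := hthree' (t * g * t⁻¹) (mem_inf.2 ⟨by rw [mem_stabilizer_iff, ← hta]; exact key a ha,
      by rw [mem_stabilizer_iff, ← htb]; exact key b hb⟩) (t • c)
      (fun e' => hac.symm (MulAction.injective t (e'.trans hta.symm)))
      (fun e' => hbc.symm (MulAction.injective t (e'.trans htb.symm))) (key c hc)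
    exact (mul_inv_eq_one.1 h1 |> fun h => mul_left_cancel (h.trans (mul_one t).symm))
  have hfaith : FaithfulSMul K (Sylow p K) := by
    constructor
    intro g₁ g₂ h
    obtain ⟨R, hR⟩ : ∃ R : Sylow p K, R ∉ ({P, Q} : Finset (Sylow p K)) := by
      refine Finset.exists_mem_notMem_of_card_lt_card (t := Finset.univ) ?_ |>.imp fun R hR => hR.2
      rw [Finset.card_pair hQ.symm, Finset.card_univ, ← Nat.card_eq_fintype_card, hn]
      omega
    simp only [Finset.mem_insert, Finset.mem_singleton, not_or] at hR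
    have hg : ∀ z : Sylow p K, (g₂⁻¹ * g₁) • z = z := fun z => by
      rw [mul_smul, h z, inv_smul_smul]
    exact (inv_mul_eq_one.1 (hthree _ P Q R hQ.symm (Ne.symm hR.2) (Ne.symm hR.1)
      (hg _) (hg _) (hg _))).symm
  have h2pre : IsMultiplyPretransitive K (Sylow p K) 2 := by
    rw [MulAction.is_two_pretransitive_iff]
    intro a b c d hab hcd
    obtain ⟨g, hga, hgb⟩ := h2t a b hab
    obtain ⟨t, htc, htd⟩ := h2t c d hcd
    exact ⟨t⁻¹ * g, by rw [mul_smul, hga, ← htc, inv_smul_smul],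
      by rw [mul_smul, hgb, ← htd, inv_smul_smul]⟩
  -- simplicity
  haveI : IsSimpleGroup K := by
    haveI : Nontrivial K := Finite.one_lt_card_iff_nontrivial.1 (by
      rw [hcard]; exact Nat.one_lt_iff_ne_zero_and_ne_one.2 ⟨Nat.pos_iff_ne_zero.1
        (Nat.mul_pos (Nat.mul_pos hp.out.pos (by omega)) (by omega)), fun h => by
        have := Nat.eq_one_of_mul_eq_one_left h; omega⟩)
    refine ⟨fun N hN => ?_⟩
    by_contra! hne
    haveI := hN
    have hallP : (P : Subgroup K) ≤ N → False := by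
      intro hPN
      refine hne.2 (top_le_iff.1 (hgen ▸ (closure_le N).2 fun g hg => ?_))
      obtain ⟨R, hR⟩ := exists_sylow_mem (p := p) hg
      obtain ⟨t, ht⟩ := exists_smul_eq K P R
      have hgR : g ∈ ((t • P : Sylow p K) : Subgroup K) := ht.symm ▸ hR
      rw [Sylow.coe_subgroup_smul] at hgR
      obtain ⟨y, hy, rfl⟩ := hgR
      exact hN.conj_mem y (hPN hy) t
    have hNP : ∀ n ∈ N, ∀ x ∈ (P : Subgroup K), x ∈ N → x = 1 := by
      intro n hn x hx hxN
      by_contra hx1
      refine hallP fun y hy => ?_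
      have h1 := zpowers_eq_top_of_prime_card (hcardQ P) (g := (⟨x, hx⟩ : (P : Subgroup K)))
        (fun h => hx1 (congrArg Subtype.val h))
      obtain ⟨i, hi⟩ := mem_zpowers_iff.1 (h1 ▸ mem_top (⟨y, hy⟩ : (P : Subgroup K)))
      rw [← show x ^ i = y from congrArg Subtype.val hi]
      exact zpow_mem hxN i
    have hfree : ∀ n ∈ N, n • P = P → n = 1 := by
      intro n hn hnP
      have hnN : n ∈ normalizer ((P : Subgroup K) : Set K) := by
        rw [← hstab]; exact hnP
      have hcent : n ∈ centralizer ((P : Subgroup K) : Set K) := fun x hx => by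
        have h1 : n * x * n⁻¹ * x⁻¹ = 1 := hNP n hn _
          (mul_mem ((mem_normalizer_iff.1 hnN x).1 hx) (inv_mem hx))
          (by rw [show n * x * n⁻¹ * x⁻¹ = n * (x * n⁻¹ * x⁻¹) by group]
              exact mul_mem hn (hN.conj_mem _ (inv_mem hn) x))
        exact (mul_inv_eq_iff_eq_mul.1 (mul_inv_eq_one.1 h1)).symm
      exact hNP n hn n (hC n hcent) hn
    obtain ⟨⟨n₀, hn₀⟩, hn₀1⟩ := (N.ne_bot_iff_exists_ne_one).1 hne.1
    have hn₀P : n₀ • P ≠ P := fun h => hn₀1 (Subtype.ext (hfree n₀ hn₀ h))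
    have horb : ∀ R : Sylow p K, ∃ n ∈ N, n • P = R := by
      intro R
      by_cases hR : R = P
      · exact ⟨1, one_mem _, by rw [one_smul, hR]⟩
      obtain ⟨x, hx, hxR⟩ := htrans _ R hn₀P hR
      refine ⟨x * n₀ * x⁻¹, hN.conj_mem n₀ hn₀ x, ?_⟩
      rw [mul_smul, mul_smul, show x⁻¹ • P = P from ?_, hxR]
      rw [← mem_stabilizer_iff, hstab]
      exact le_normalizer (inv_mem hx)
    have htopK : N ⊔ (P : Subgroup K) = ⊤ := by
      refine top_le_iff.1 (hgen ▸ (closure_le _).2 fun g hg => ?_)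
      obtain ⟨R, hR⟩ := exists_sylow_mem (p := p) hg
      obtain ⟨n, hn, rfl⟩ := horb R
      have hgR := hR
      rw [Sylow.coe_subgroup_smul] at hgR
      obtain ⟨y, hy, rfl⟩ := hgR
      exact mul_mem (mul_mem (mem_sup_left hn) (mem_sup_right hy))
        (inv_mem (mem_sup_left hn))
    have hsurj : Function.Surjective (fun z : ↥N × ↥(P : Subgroup K) => (z.1 : K) * z.2) := by
      intro g
      have hg : g ∈ ((N ⊔ (P : Subgroup K) : Subgroup K) : Set K) := by rw [htopK]; trivial
      rw [Subgroup.normal_mul] at hg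
      obtain ⟨n, hn, x, hx, rfl⟩ := Set.mem_mul.1 hg
      exact ⟨(⟨n, hn⟩, ⟨x, hx⟩), rfl⟩
    have hle := Nat.card_le_card_of_surjective _ hsurj
    rw [Nat.card_prod, show Nat.card (P : Subgroup K) = p from hP, hcard] at hle
    have hNle : Nat.card N ≤ p + 1 := by
      rw [← hn]
      refine Nat.card_le_card_of_injective (fun n : N => (n : K) • P) fun n m h => ?_
      have h' : (n : K) • P = (m : K) • P := h
      exact Subtype.ext (inv_mul_eq_one.1 (hfree _ (mul_mem (inv_mem m.2) n.2)
        (by rw [mul_smul, h', inv_smul_smul]))).symm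
    have h3 := hle.trans (Nat.mul_le_mul_right p hNle)
    have h4 : (p + 1) * p * 1 < (p + 1) * p * e := Nat.mul_lt_mul_of_pos_left (by omega)
      (Nat.mul_pos (by omega) hp.out.pos)
    linarith
  have hZ : Cfsg.IsZassenhausGroup K (Sylow p K) := by
    refine ⟨hfaith, h2pre, hthree, ?_, ?_⟩
    · haveI : Nontrivial H := Finite.one_lt_card_iff_nontrivial.1 (by omega)
      obtain ⟨⟨g, hg⟩, hg1⟩ := exists_ne (1 : H)
      exact ⟨g, fun h => hg1 (Subtype.ext h), P, Q, hQ.symm, (mem_inf.1 hg).1, (mem_inf.1 hg).2⟩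
    · intro N hN hNt
      refine ⟨P, fun hbot => ?_⟩
      rcases hN.eq_bot_or_eq_top with h | h
      · subst h
        obtain ⟨⟨n, hn⟩, hnP⟩ := hNt.exists_smul_eq P Q
        rw [Subgroup.mem_bot] at hn
        subst hn
        exact hQ (by simpa using hnP.symm)
      · subst h
        haveI : Nontrivial H := Finite.one_lt_card_iff_nontrivial.1 (by omega)
        obtain ⟨⟨g, hg⟩, hg1⟩ := exists_ne (1 : H)
        have : (⟨g, mem_top g⟩ : (⊤ : Subgroup K)) ∈ stabilizer (⊤ : Subgroup K) P :=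
          (mem_inf.1 hg).1
        rw [hbot, Subgroup.mem_bot] at this
        exact hg1 (Subtype.ext ((congrArg Subtype.val this : _) : g = 1))
  have hcomm : ∀ x ∈ H, ∀ y ∈ H, x * y = y * x := by
    obtain ⟨⟨hc⟩, -⟩ := Cfsg.Agent.S0345.result hZ hQ.symm
    intro x hx y hy
    haveI : IsCyclic H := ⟨hc⟩
    exact congrArg Subtype.val (IsCyclic.commGroup.mul_comm (⟨x, hx⟩ : H) ⟨y, hy⟩)
  obtain ⟨-, v, hv, hva, hvb, hinv⟩ := Cfsg.Agent.S0345.result hZ hQ.symm
  obtain ⟨F, hF, hFF, -, hcardF, ⟨iso⟩⟩ := H59.half_PSL hZ hQ.symm (by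
    show Fintype.card (Sylow p K) = 2 * Nat.card H + 2
    rw [← Nat.card_eq_fintype_card, hn, hcardH]; omega) hva hvb
    (by rw [← pow_two, ← hv]; exact pow_orderOf_eq_one v) hcomm hinv
  rw [← Nat.card_eq_fintype_card (α := Sylow p K), hn, Nat.add_right_cancel_iff] at hcardF
  exact ⟨iso.trans (H37.pslCongr (FiniteField.ringEquivOfCardEq (K := F) (K' := ZMod p) (by
    rw [hcardF, ZMod.card p])))⟩

end H15.HalfDeg
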