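import Cfsg.Agent.H15.HalfDeg.Bound
import Cfsg.Agent.H15.HalfDeg.Recognition

/-!
Half degree (helper15): a group with Sylow subgroups of order `p`, no normal subgroup of order `p`
and a faithful character of degree `(p - 1) / 2` is `PSL(2, p)` modulo its centre.
-/

set_option autoImplicit false
set_option linter.style.haveILetI false
set_option linter.unusedSectionVars false

open Cfsg
open scoped ComplexConjugate Pointwise

namespace H15.HalfDeg

open H85.D1

universe u

/-- A representation with irreducible character is irreducible. -/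
theorem isIrreducible_of_irr {A : Type*} [Group A] [Fintype A] {n : ℕ}
    (σ : Representation ℂ A (Fin n → ℂ)) (ψ : IrrCharacter A)
    (hψ : σ.character = (ψ : A → ℂ)) : σ.IsIrreducible := by
  classical
  by_contra hirr
  have hn : H12.degree (ψ : A → ℂ) = n := by rw [← hψ, H12.degree_character]; simp
  have hpos := H12.irr_degree_pos ψ
  haveI : Nontrivial (Fin n → ℂ) := by
    haveI : Nonempty (Fin n) := ⟨⟨0, by omega⟩⟩
    infer_instance
  obtain ⟨a, b, hab, hla, hlb⟩ := H12.exists_proper_decomp σ hirr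
  obtain ⟨ma, hma⟩ := H12.exists_mult_of_rep _ _ a.toRepresentation rfl
  obtain ⟨mb, hmb⟩ := H12.exists_mult_of_rep _ _ b.toRepresentation rfl
  have hsum := H12.character_eq_add_of_isCompl σ a b hab
  rw [hψ, hma, hmb, ← Finset.sum_add_distrib] at hsum
  simp only [← add_smul, ← Nat.cast_add] at hsum
  have hc : ∀ i : IrrCharacter A, ma i + mb i = if ψ = i then 1 else 0 := fun i => by
    have h1 := congrArg (fun f => classInner f (i : A → ℂ)) hsum
    simp only [H12.classInner_irr, H12.classInner_sum_smul_irr] at h1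
    have h2 : ((ma i + mb i : ℕ) : ℂ) = ((if ψ = i then 1 else 0 : ℕ) : ℂ) := by
      push_cast at h1 ⊢
      exact h1.symm
    exact_mod_cast h2
  have hz : (∀ i, ma i = 0) ∨ ∀ i, mb i = 0 := by
    have h1 := hc ψ
    rw [if_pos rfl] at h1
    rcases Nat.eq_zero_or_pos (ma ψ) with h0 | h0
    · exact Or.inl fun i => by
        have := hc i
        split_ifs at this with hi
        · subst hi; exact h0
        · omega
    · exact Or.inr fun i => by
        have := hc i
        split_ifs at this with hi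
        · subst hi; omega
        · omega
  have hfa : Module.finrank ℂ a.toSubmodule + Module.finrank ℂ b.toSubmodule = n :=
    (Submodule.finrank_add_eq_of_isCompl hab).trans (by simp)
  have hn' : Module.finrank ℂ (Fin n → ℂ) = n := by simp
  rcases hz with h0 | h0
  · have h1 : a.toRepresentation.character 1 = 0 := by rw [hma]; simp [h0]
    rw [Representation.char_one, Nat.cast_eq_zero] at h1
    omega
  · have h1 : b.toRepresentation.character 1 = 0 := by rw [hmb]; simp [h0]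
    rw [Representation.char_one, Nat.cast_eq_zero] at h1
    omega

variable {G : Type u} [Group G] [Fintype G] {p : ℕ} [hp : Fact p.Prime]

/-- Elements of a Sylow subgroup of order `p` that fix another one are trivial. -/
theorem eq_one_of_fix {P : Sylow p G} (hP : Nat.card P = p) {x : G} (hx : x ∈ (P : Subgroup G))
    {Q : Sylow p G} (hQ : Q ≠ P) (hfix : x • Q = Q) : x = 1 := by
  by_contra hx1
  have hxN : x ∈ Subgroup.normalizer ((Q : Subgroup G) : Set G) := by
    have h := Sylow.stabilizer_eq_normalizer Q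
    exact h ▸ (hfix : x ∈ MulAction.stabilizer G Q)
  have hxp : IsPGroup p (Subgroup.zpowers x) := P.2.to_le (Subgroup.zpowers_le.2 hx)
  have hxQ : x ∈ (Q : Subgroup G) :=
    (Subgroup.mem_inf.1 ((SetLike.ext_iff.1 (hxp.inf_normalizer_sylow Q) x).1
      (Subgroup.mem_inf.2 ⟨Subgroup.mem_zpowers x, hxN⟩))).2
  have hQc : Nat.card Q = p := by
    rw [Q.card_eq_multiplicity, ← P.card_eq_multiplicity, hP]
  exact hQ (Sylow.ext ((H20.PrimeSylow.zpowers_eq hQc hxQ hx1).symm.trans
    (H20.PrimeSylow.zpowers_eq hP hx hx1)))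

variable {P : Sylow p G} {u a : G} {H : Subgroup G} [Fintype H] {D : Setting P u a H}
  [Fintype (D.aut (H12.oneIrr H))] {e : ℕ} {χ : IrrCharacter G} {θ : IrrCharacter H}
  {ψ : (P : Subgroup G) →* ℂˣ}

namespace Half

variable (h : Half D e χ θ ψ)
include h

/-- The quotient by the centre. -/
theorem quotient_psl {M : Ideal AlgInt} [M.IsPrime] (hM : IsPModular p M)
    (hgen : Subgroup.closure {g : G | g ^ p = 1} = ⊤) (hnn : ¬ (P : Subgroup G).Normal) :
    Nonempty ((G ⧸ Subgroup.center G) ≃* Matrix.ProjectiveSpecialLinearGroup (Fin 2) (ZMod p)) := by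
  classical
  obtain ⟨hn, hcard⟩ := h.card_eq hM hnn
  set Z := Subgroup.center G with hZ
  set π := QuotientGroup.mk' Z with hπ
  have hπs : Function.Surjective π := QuotientGroup.mk'_surjective Z
  have hHZ : H = Z := h.center_eq
  set P' := P.mapSurjective hπs with hP'
  have hP'c : (P' : Subgroup (G ⧸ Z)) = (P : Subgroup G).map π := rfl
  have hxp : ∀ x ∈ (P : Subgroup G), x ^ p = 1 := fun x hx => by
    have h1 := pow_card_eq_one' (G := (P : Subgroup G)) (x := ⟨x, hx⟩)
    rw [D.hP] at h1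
    exact congrArg Subtype.val h1
  have hkill : ∀ w : G, w ∈ H → w ^ p = 1 → w = 1 := fun w hw h1 => by
    rcases (Nat.dvd_prime hp.out).1 (orderOf_dvd_of_pow_eq_one h1) with h2 | h2
    · exact orderOf_eq_one_iff.1 h2
    · exact absurd (h2 ▸ dvd_rfl) (D.not_dvd_orderOf hw)
  have hPcard : Nat.card P' = p := by
    show Nat.card ((P : Subgroup G).map π : Subgroup (G ⧸ Z)) = p
    refine Eq.trans ?_ D.hP
    refine (Nat.card_congr (Equiv.ofBijective
      (fun x : ↥(P : Subgroup G) => (⟨π x, x, x.2, rfl⟩ : ↥((P : Subgroup G).map π)))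
      ⟨fun x y hxy => ?_, ?_⟩)).symm
    · have h1 : π x = π y := congrArg Subtype.val hxy
      have h2 : (x : G)⁻¹ * y ∈ H := hHZ ▸ (QuotientGroup.eq.1 h1)
      have h3 := hkill _ h2 (hxp _ (mul_mem (inv_mem x.2) y.2))
      exact Subtype.ext (inv_mul_eq_one.1 h3)
    · rintro ⟨_, x, hx, rfl⟩
      exact ⟨⟨x, hx⟩, rfl⟩
  -- an element commuting modulo the centre with an element of `P`
  have hmod : ∀ (g : G) (x z : G), x ∈ (P : Subgroup G) → z ∈ (P : Subgroup G) →
      π (g * x * g⁻¹) = π z → g * x * g⁻¹ = z := by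
    intro g x z hx hz he
    have h2 : z⁻¹ * (g * x * g⁻¹) ∈ H := hHZ ▸ (QuotientGroup.eq.1 he.symm)
    have hcomm : Commute (z⁻¹) (g * x * g⁻¹) := by
      have h3 := Subgroup.mem_center_iff.1 (h.central_le h2) z
      show z⁻¹ * (g * x * g⁻¹) = g * x * g⁻¹ * z⁻¹
      rw [eq_mul_inv_iff_mul_eq, ← h3, mul_inv_cancel_left]
    have h4 := hkill _ h2 (by
      rw [hcomm.mul_pow, inv_pow, hxp z hz, inv_one, one_mul, conj_pow, hxp x hx, mul_one,
        mul_inv_cancel])
    exact (inv_mul_eq_one.1 h4).symm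
  have hC : ∀ c, c ∈ Subgroup.centralizer ((P' : Subgroup (G ⧸ Z)) : Set (G ⧸ Z)) →
      c ∈ (P' : Subgroup (G ⧸ Z)) := by
    intro c hc
    obtain ⟨g, rfl⟩ := hπs c
    have hgC : g ∈ Subgroup.centralizer ((P : Subgroup G) : Set G) := by
      intro x hx
      have h1 : π x * π g = π g * π x := hc (π x) ⟨x, hx, rfl⟩
      have h2 := hmod g x x hx hx (by rw [map_mul, map_mul, map_inv, ← h1, mul_inv_cancel_right])
      exact (mul_inv_eq_iff_eq_mul.1 h2).symm
    obtain ⟨x, hx, k, hk, rfl⟩ := D.exists_mul hgC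
    refine ⟨x, hx, ?_⟩
    rw [map_mul]
    have : π k = 1 := (QuotientGroup.eq_one_iff k).2 (hHZ ▸ hk)
    rw [this, mul_one]
  have hcardK : Nat.card (G ⧸ Z) = p * e * (p + 1) := by
    have h1 := Z.card_mul_index
    rw [hcard, ← hHZ, mul_comm (p * e * (p + 1))] at h1
    rw [← Subgroup.index_eq_card, ← hHZ]
    exact Nat.eq_of_mul_eq_mul_left Nat.card_pos h1
  have hnorm : (Subgroup.normalizer ((P' : Subgroup (G ⧸ Z)) : Set (G ⧸ Z))).comap π =
      Subgroup.normalizer ((P : Subgroup G) : Set G) := by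
    refine le_antisymm (fun g hg => ?_) fun g hg => ?_
    · rw [Subgroup.mem_comap] at hg
      have h1 : π g * π u * (π g)⁻¹ ∈ (P' : Subgroup (G ⧸ Z)) :=
        (Subgroup.mem_normalizer_iff.1 hg (π u)).1 ⟨u, D.u_mem, rfl⟩
      obtain ⟨z, hz, hze⟩ := h1
      have h2 := hmod g u z D.u_mem hz (by rw [map_mul, map_mul, map_inv, hze])
      exact D.mem_normalizer D.u_mem D.u_ne_one hz h2
    · rw [Subgroup.mem_comap]
      refine Subgroup.mem_normalizer_iff.2 fun y => ⟨?_, ?_⟩
      · rintro ⟨x, hx, rfl⟩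
        exact ⟨g * x * g⁻¹, (Subgroup.mem_normalizer_iff.1 hg x).1 hx, by simp⟩
      · rintro ⟨x, hx, hxy⟩
        refine ⟨g⁻¹ * x * g, (Subgroup.mem_normalizer_iff''.1 hg x).1 hx, ?_⟩
        rw [map_mul, map_mul, map_inv, hxy]
        group
  have hnK : Nat.card (Sylow p (G ⧸ Z)) = p + 1 := by
    rw [show Nat.card (Sylow p (G ⧸ Z)) =
      (Subgroup.normalizer ((P' : Subgroup (G ⧸ Z)) : Set (G ⧸ Z))).index from
      P'.card_eq_index_normalizer, ← Subgroup.index_comap_of_surjective _ hπs, hnorm, ← hn]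
    exact P.card_eq_index_normalizer.symm
  have hgenK : Subgroup.closure {g : G ⧸ Z | g ^ p = 1} = ⊤ := by
    refine top_le_iff.1 ?_
    rw [← Subgroup.map_top_of_surjective π hπs, ← hgen, MonoidHom.map_closure]
    refine Subgroup.closure_mono ?_
    rintro _ ⟨g, hg, rfl⟩
    show π g ^ p = 1
    rw [← map_pow, show g ^ p = 1 from hg, map_one]
  exact psl_of_sylow h.two_le h.hpe P' hPcard hC hcardK hnK hgenK

/-- An automorphism of `G` fixing `P` pointwise is, after an inner automorphism by an element of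
`P`, trivial. -/
theorem exists_aut_trivial {M : Ideal AlgInt} [M.IsPrime] (hM : IsPModular p M)
    (hnn : ¬ (P : Subgroup G).Normal) (β : G ≃* G)
    (hβ : ∀ x ∈ (P : Subgroup G), β x = x) :
    ∃ x ∈ (P : Subgroup G), ∀ g : G, β g = x * g * x⁻¹ := by
  classical
  obtain ⟨hn, -⟩ := h.card_eq hM hnn
  letI : Fintype (Sylow p G) := Fintype.ofFinite _
  have hstab : ∀ R : Sylow p G,
      MulAction.stabilizer G R = Subgroup.normalizer ((R : Subgroup G) : Set G) :=
    fun R => R.stabilizer_eq_normalizer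
  haveI : Nontrivial (Sylow p G) := Finite.one_lt_card_iff_nontrivial.1
    (by rw [hn]; have := hp.out.pos; omega)
  obtain ⟨Q₀, hQ₀⟩ := exists_ne P
  have hx1 : ∀ x ∈ (P : Subgroup G), x • P = P := fun x hx => by
    rw [← MulAction.mem_stabilizer_iff, hstab]
    exact Subgroup.le_normalizer hx
  have hcov : ∀ Q : Sylow p G, Q ≠ P → ∃ x ∈ (P : Subgroup G), x • Q₀ = Q := by
    intro Q hQ
    let φ : ↥(P : Subgroup G) → {R : Sylow p G // R ≠ P} := fun x => ⟨(x : G) • Q₀, fun h' => hQ₀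
      ((inv_smul_smul (x : G) Q₀).symm.trans ((congrArg (((x : G)⁻¹) • ·) h').trans
        (hx1 _ (inv_mem x.2))))⟩
    have hinj : Function.Injective φ := fun x y hxy => by
      have h' : (x : G) • Q₀ = (y : G) • Q₀ := congrArg Subtype.val hxy
      exact Subtype.ext (inv_mul_eq_one.1 (eq_one_of_fix D.hP (mul_mem (inv_mem y.2) x.2) hQ₀
        (by rw [mul_smul, h', inv_smul_smul]))).symm
    have hbij := (Nat.bijective_iff_injective_and_card φ).2 ⟨hinj, by
      rw [show Nat.card (P : Subgroup G) = p from D.hP, Nat.card_eq_fintype_card,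
        Fintype.card_subtype_compl, Fintype.card_subtype_eq, ← Nat.card_eq_fintype_card, hn]
      omega⟩
    obtain ⟨x, hx⟩ := hbij.2 ⟨Q, hQ⟩
    exact ⟨x, x.2, congrArg Subtype.val hx⟩
  -- the image of a Sylow subgroup
  let act : (G ≃* G) → Sylow p G → Sylow p G := fun γ Q =>
    Q.mapSurjective (f := γ.toMonoidHom) γ.surjective
  have hact : ∀ (γ : G ≃* G) (Q : Sylow p G) (g : G),
      act γ (g • Q) = γ g • act γ Q := by
    intro γ Q g
    refine Sylow.ext ?_
    show ((g • Q : Sylow p G) : Subgroup G).map γ.toMonoidHom = _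
    rw [Sylow.coe_subgroup_smul, Sylow.coe_subgroup_smul]
    ext y
    constructor
    · rintro ⟨_, ⟨w, hw, rfl⟩, rfl⟩
      exact ⟨γ w, ⟨w, hw, rfl⟩, by simp⟩
    · rintro ⟨_, ⟨w, hw, rfl⟩, rfl⟩
      exact ⟨_, ⟨w, hw, rfl⟩, by simp⟩
  have hβP : act β P = P := Sylow.ext (by
    show (P : Subgroup G).map β.toMonoidHom = _
    ext y
    exact ⟨fun ⟨x, hx, hxy⟩ => by rw [← hxy]; show β x ∈ _; rw [hβ x hx]; exact hx,
      fun hy => ⟨y, hy, hβ y hy⟩⟩)
  have hβQ : act β Q₀ ≠ P := fun h' => hQ₀ (Sylow.ext (Subgroup.map_injective β.injective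
    (congrArg (fun R : Sylow p G => (R : Subgroup G)) (h'.trans hβP.symm))))
  obtain ⟨x, hx, hxQ⟩ := hcov _ hβQ
  refine ⟨x, hx, ?_⟩
  set γ : G ≃* G := β.trans (MulAut.conj x⁻¹) with hγ
  have hγv : ∀ g, γ g = x⁻¹ * β g * x := fun g => by simp [hγ, MulAut.conj_apply]
  have hγP : ∀ w ∈ (P : Subgroup G), γ w = w := fun w hw => by
    rw [hγv, hβ w hw]
    haveI : IsCyclic (P : Subgroup G) := isCyclic_of_prime_card D.hP
    have hcomm : x * w = w * x := congrArg Subtype.val
      (IsCyclic.commGroup.mul_comm (⟨x, hx⟩ : (P : Subgroup G)) ⟨w, hw⟩)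
    rw [mul_assoc, ← hcomm, inv_mul_cancel_left]
  have hγQ₀ : act γ Q₀ = Q₀ := by
    refine Sylow.ext ?_
    have h1 : ((x • Q₀ : Sylow p G) : Subgroup G) = (Q₀ : Subgroup G).map β.toMonoidHom :=
      congrArg (fun R : Sylow p G => (R : Subgroup G)) hxQ
    rw [Sylow.coe_subgroup_smul] at h1
    show (Q₀ : Subgroup G).map γ.toMonoidHom = _
    rw [show γ.toMonoidHom = (MulAut.conj x⁻¹).toMonoidHom.comp β.toMonoidHom from rfl,
      ← Subgroup.map_map, ← h1]
    ext y
    constructor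
    · rintro ⟨_, ⟨w, hw, rfl⟩, rfl⟩
      simp [mul_assoc]
      exact hw
    · intro hy
      exact ⟨_, ⟨y, hy, rfl⟩, by simp [mul_assoc]⟩
  have hall : ∀ Q : Sylow p G, act γ Q = Q := by
    intro Q
    by_cases hQ : Q = P
    · subst hQ
      refine Sylow.ext ?_
      show (Q : Subgroup G).map γ.toMonoidHom = _
      ext y
      exact ⟨fun ⟨w, hw, hwy⟩ => by rw [← hwy]; show γ w ∈ _; rw [hγP w hw]; exact hw,
        fun hy => ⟨y, hy, hγP y hy⟩⟩
    · obtain ⟨w, hw, rfl⟩ := hcov Q hQ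
      rw [hact, hγQ₀, hγP w hw]
  have hker : ∀ k : G, (∀ Q : Sylow p G, k • Q = Q) → k ∈ H := by
    intro k hk
    have hkN : k ∈ Subgroup.normalizer ((P : Subgroup G) : Set G) := by
      rw [← hstab]; exact hk P
    have hkC : k ∈ Subgroup.centralizer ((P : Subgroup G) : Set G) := by
      intro w hw
      have h1 : k * w * k⁻¹ * w⁻¹ = 1 := by
        refine eq_one_of_fix D.hP
          (mul_mem ((Subgroup.mem_normalizer_iff.1 hkN w).1 hw) (inv_mem hw)) hQ₀ ?_
        rw [show k * w * k⁻¹ * w⁻¹ = k * (w * k⁻¹ * w⁻¹) by group, mul_smul, mul_smul, mul_smul,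
          inv_smul_eq_iff.2 (hk (w⁻¹ • Q₀)).symm, smul_inv_smul, hk]
      exact (mul_inv_eq_iff_eq_mul.1 (mul_inv_eq_one.1 h1)).symm
    obtain ⟨y, hy, w, hw, rfl⟩ := D.exists_mul hkC
    have h1 : w • Q₀ = Q₀ := by
      rw [← MulAction.mem_stabilizer_iff, hstab,
        Subgroup.mem_normalizer_iff]
      intro z
      rw [← Subgroup.mem_center_iff.1 (h.central_le hw) z, mul_inv_cancel_right]
    have h2 := eq_one_of_fix D.hP hy hQ₀ (by
      have h3 := hk Q₀
      rwa [mul_smul, h1] at h3)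
    rw [h2, one_mul]
    exact hw
  have hkmem : ∀ g, γ g * g⁻¹ ∈ H := fun g => hker _ fun Q => by
    have h1 := hall (g⁻¹ • Q)
    rw [hact, hall Q] at h1
    have h2 : γ g • (g⁻¹ • Q) = Q := by
      rw [← h1, map_inv, smul_inv_smul]
    rwa [mul_smul]
  obtain ⟨l, hl⟩ := H12.exists_monoidHom_of_apply_one_eq_one (H12.isCharacter_irr θ)
    (lin_one D h.central_le θ)
  have hmul : ∀ g g' : G, (⟨γ (g * g') * (g * g')⁻¹, hkmem _⟩ : H) =
      ⟨γ g * g⁻¹, hkmem g⟩ * ⟨γ g' * g'⁻¹, hkmem g'⟩ := fun g g' => Subtype.ext (by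
    push_cast
    rw [map_mul, mul_inv_rev]
    calc γ g * γ g' * (g'⁻¹ * g⁻¹) = γ g * ((γ g' * g'⁻¹) * g⁻¹) := by group
      _ = γ g * (g⁻¹ * (γ g' * g'⁻¹)) := by
          rw [Subgroup.mem_center_iff.1 (h.central_le (hkmem g')) g⁻¹]
      _ = _ := by group)
  let f : G →* ℂˣ :=
    { toFun := fun g => l ⟨γ g * g⁻¹, hkmem g⟩
      map_one' := by
        rw [show (⟨γ 1 * 1⁻¹, hkmem 1⟩ : H) = 1 from Subtype.ext (by simp), map_one]
      map_mul' := fun g g' => by rw [hmul, map_mul] }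
  intro g
  have h1 : (θ : H → ℂ) ⟨γ g * g⁻¹, hkmem g⟩ = 1 := by
    rw [← congrFun hl]
    have := DFunLike.congr_fun (h.perfect f) g
    exact congrArg Units.val this
  have h2 : γ g * g⁻¹ = 1 := h.faithful _ (by
    have h3 := apply_center D h.central_le hM h.mem_supp ⟨γ g * g⁻¹, hkmem g⟩
    rw [h1, one_mul] at h3
    rw [H12.irr_apply_one]
    exact h3)
  have h3 : x⁻¹ * β g * x = g := by rw [← hγv]; exact mul_inv_eq_one.1 h2
  calc β g = x * (x⁻¹ * β g * x) * x⁻¹ := by group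
    _ = x * g * x⁻¹ := by rw [h3]

end Half

/-- The theorem. -/
theorem psl_of_half_degree {A : Type u} [Group A] [Finite A] {e : ℕ} (he : 2 * e + 1 = p)
    (hdiv : p ∣ Nat.card A) (hsq : ¬ p ^ 2 ∣ Nat.card A)
    (hnn : ∀ K : Subgroup A, K.Normal → Nat.card K ≠ p) (χ : A → ℂ) (hχ : IsCharacter A χ)
    (hfaith : ∀ g : A, χ g = χ 1 → g = 1) (hdeg : H12.degree χ = e) :
    Nonempty ((A ⧸ Subgroup.center A) ≃* Matrix.ProjectiveSpecialLinearGroup (Fin 2) (ZMod p)) := by
  classical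
  letI : Fintype A := Fintype.ofFinite A
  have hp' : p.Prime := hp.out
  obtain ⟨P⟩ : Nonempty (Sylow p A) := inferInstance
  have hfac : (Nat.card A).factorization p = 1 := by
    have h1 := Nat.Prime.factorization_pos_of_dvd hp' Nat.card_pos.ne' hdiv
    have h2 : ¬ 2 ≤ (Nat.card A).factorization p := fun h =>
      hsq ((hp'.pow_dvd_iff_le_factorization Nat.card_pos.ne').2 h)
    omega
  have hP : Nat.card P = p := by rw [P.card_eq_multiplicity, hfac, pow_one]
  have hPn : ¬ (P : Subgroup A).Normal := fun h => hnn _ h hP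
  obtain ⟨n, ρ, hρ⟩ := id hχ
  have hρn : n = e := by
    rw [← hdeg, ← hρ, H12.degree_character]; simp
  subst hρn
  -- scalars are central
  have hscal : ∀ g : A, ∀ c : ℂ, ρ g = c • (1 : Module.End ℂ (Fin n → ℂ)) →
      g ∈ Subgroup.center A := by
    intro g c hg
    refine Subgroup.mem_center_iff.2 fun x => ?_
    have h1 : ρ (x * g) = ρ (g * x) := by
      rw [map_mul, map_mul, hg, smul_one_mul, mul_smul_one]
    refine mul_inv_eq_one.1 (hfaith _ ?_)
    rw [← hρ]
    show LinearMap.trace ℂ _ (ρ (x * g * (g * x)⁻¹)) = LinearMap.trace ℂ _ (ρ 1)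
    rw [map_mul, h1, ← map_mul, mul_inv_cancel]
  have he2 : 2 ≤ n := by
    by_contra h1
    have hp2 := hp'.two_le
    have hn1 : n = 1 := by omega
    subst hn1
    refine hPn ⟨fun x hx g => ?_⟩
    have hlin : ∃ c : ℂ, ρ x = c • (1 : Module.End ℂ (Fin 1 → ℂ)) := by
      refine ⟨(ρ x) 1 0, LinearMap.ext fun v => funext fun i => ?_⟩
      have hv : v = v 0 • (1 : Fin 1 → ℂ) := funext fun j => by
        simp [Subsingleton.elim j 0]
      rw [hv]
      simp [Subsingleton.elim i 0, mul_comm]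
    obtain ⟨c, hc⟩ := hlin
    rw [Subgroup.mem_center_iff.1 (hscal x c hc) g, mul_inv_cancel_right]
    exact hx
  set L := Subgroup.closure {g : A | g ^ p = 1} with hL
  haveI hLn : L.Normal := by
    refine Subgroup.normalizer_eq_top_iff.1 (top_le_iff.1 fun g _ => ?_)
    rw [Subgroup.mem_normalizer_iff_map_conj_eq, hL, MonoidHom.map_closure]
    congr 1
    ext y
    constructor
    · rintro ⟨z, hz, rfl⟩
      show (MulAut.conj g z) ^ p = 1
      rw [← map_pow, show z ^ p = 1 from hz, map_one]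
    · intro hy
      refine ⟨g⁻¹ * y * g, ?_, by simp [mul_assoc]⟩
      show (g⁻¹ * y * g) ^ p = 1
      rw [show g⁻¹ * y * g = g⁻¹ * y * (g⁻¹)⁻¹ by rw [inv_inv], conj_pow,
        show y ^ p = 1 from hy, mul_one, mul_inv_cancel]
  have hmemL : ∀ g : A, g ^ p = 1 → g ∈ L := fun g hg => Subgroup.subset_closure hg
  have hpowP : ∀ x ∈ (P : Subgroup A), x ^ p = 1 := fun x hx => by
    have h := pow_card_eq_one' (G := (P : Subgroup A)) (x := ⟨x, hx⟩)
    rw [hP] at h
    exact congrArg Subtype.val h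
  have hPL : (P : Subgroup A) ≤ L := fun x hx => hmemL x (hpowP x hx)
  set P' := P.subtype hPL with hP'
  have hP'c : Nat.card P' = p := by
    exact (Nat.card_congr (Subgroup.subgroupOfEquivOfLe hPL).toEquiv).trans hP
  obtain ⟨u, a, H, D⟩ := exists_setting hP'c
  haveI : Fintype H := Fintype.ofFinite _
  haveI : Fintype (D.aut (H12.oneIrr H)) := Fintype.ofFinite _
  obtain ⟨M, hM⟩ := H22.exists_isPModular p hp'
  haveI : M.IsPrime := hM.2.1.isPrime
  have hgen : Subgroup.closure {g : L | g ^ p = 1} = ⊤ := by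
    refine Eq.trans (congrArg _ ?_) (Subgroup.closure_closure_coe_preimage (k := {g : A | g ^ p = 1}))
    ext g
    simp only [Set.mem_setOf_eq, Set.mem_preimage, ← SubmonoidClass.coe_pow]
    exact ⟨fun h => by rw [h]; rfl, fun h => Subtype.ext h⟩
  have hP'n : ¬ (P' : Subgroup L).Normal := by
    intro hN
    refine hPn ⟨fun x hx g => ?_⟩
    set y := g * x * g⁻¹ with hy
    have hyp : y ^ p = 1 := by rw [hy, conj_pow, hpowP x hx, mul_one, mul_inv_cancel]
    obtain ⟨k, -, hk⟩ := (Nat.dvd_prime_pow hp').1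
      ((pow_one p).symm ▸ orderOf_dvd_of_pow_eq_one hyp : orderOf y ∣ p ^ 1)
    obtain ⟨z, hz, hconj⟩ := H20.FreeSylow.exists_isConj_mem (P := P')
      (y := (⟨y, hmemL y hyp⟩ : L)) ⟨k, by rw [Subgroup.orderOf_mk, hk]⟩
    obtain ⟨t, ht⟩ := isConj_iff.1 hconj.symm
    have h1 := hN.conj_mem z hz t
    rw [ht] at h1
    exact h1
  obtain ⟨m, hm⟩ := H12.IsCharacter.exists_mult (H12.IsCharacter.res hχ L)
  have hmy : ∀ y : L, χ y = ∑ ψ : IrrCharacter L, (m ψ : ℂ) * (ψ : L → ℂ) y := fun y => by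
    have := congrFun hm y
    simpa using this
  have hdegL : n = ∑ ψ : IrrCharacter L, m ψ * H12.degree (ψ : L → ℂ) := by
    have h := hmy 1
    rw [OneMemClass.coe_one, H12.IsCharacter.apply_one_eq_degree hχ, hdeg] at h
    simp only [H12.irr_apply_one] at h
    exact_mod_cast h
  obtain ⟨ψ₀, hψ₀, hbig⟩ : ∃ ψ : IrrCharacter L, m ψ ≠ 0 ∧ n ≤ H12.degree (ψ : L → ℂ) := by
    by_contra! hall
    refine hPn ⟨fun x hx g => ?_⟩
    have hcent : ∀ l ∈ L, x * l = l * x := by
      intro l hl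
      let x' : L := ⟨x, hPL hx⟩
      let l' : L := ⟨l, hl⟩
      have key : ∀ ψ : IrrCharacter L, m ψ ≠ 0 →
          (ψ : L → ℂ) (x' * l' * (l' * x')⁻¹) = (ψ : L → ℂ) 1 := by
        intro ψ hψ
        have hnorm := D.norm_eq_of_small hM hgen ψ (by have := hall ψ hψ; omega) (x := x') hx
        obtain ⟨k, σ, hσ, he'⟩ := ψ.2
        rw [← he'] at hnorm ⊢
        rw [H12.degree_character] at hnorm
        obtain ⟨ω, hω⟩ := H12.exists_scalar_of_norm_eq σ x' hnorm
        have h1 : σ (x' * l') = σ (l' * x') := by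
          rw [map_mul, map_mul, hω]
          ext v
          simp
        show LinearMap.trace ℂ _ (σ (x' * l' * (l' * x')⁻¹)) = LinearMap.trace ℂ _ (σ 1)
        rw [map_mul, h1, ← map_mul, mul_inv_cancel]
      have h1 : χ ((x' * l' * (l' * x')⁻¹ : L) : A) = χ 1 := by
        rw [show χ 1 = χ ((1 : L) : A) from rfl, hmy, hmy]
        refine Finset.sum_congr rfl fun ψ _ => ?_
        rcases Nat.eq_zero_or_pos (m ψ) with h | h
        · rw [h]; simp
        · rw [key ψ h.ne']
      have h2 := hfaith _ h1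
      push_cast at h2
      exact mul_inv_eq_one.1 h2
    set y := g * x * g⁻¹ with hy
    have hyp : y ^ p = 1 := by rw [hy, conj_pow, hpowP x hx, mul_one, mul_inv_cancel]
    have hxc : (⟨x, hPL hx⟩ : L) ∈ Subgroup.center L :=
      Subgroup.mem_center_iff.2 fun l => Subtype.ext (hcent l l.2).symm
    rcases eq_or_ne x 1 with hx1 | hx1
    · rw [hy, hx1, mul_one, mul_inv_cancel]; exact one_mem _
    exfalso
    refine hP'n ⟨fun w hw g' => ?_⟩
    have hzp : Subgroup.zpowers (⟨x, hPL hx⟩ : L) = (P' : Subgroup L) :=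
      H20.PrimeSylow.zpowers_eq hP'c hx fun h' => hx1 (congrArg Subtype.val h')
    have hwc : w ∈ Subgroup.center L := by
      rw [← hzp] at hw
      exact (Subgroup.zpowers_le.2 hxc) hw
    rw [Subgroup.mem_center_iff.1 hwc g', mul_inv_cancel_right]
    exact hw
  have hle : m ψ₀ * H12.degree (ψ₀ : L → ℂ) ≤ n := by
    rw [hdegL]
    exact Finset.single_le_sum (f := fun ψ : IrrCharacter L => m ψ * H12.degree (ψ : L → ℂ))
      (fun i _ => Nat.zero_le _) (Finset.mem_univ ψ₀)
  have hm0 : 1 ≤ m ψ₀ := Nat.one_le_iff_ne_zero.2 hψ₀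
  have hdψ : H12.degree (ψ₀ : L → ℂ) = n :=
    le_antisymm ((Nat.le_mul_of_pos_left _ hm0).trans hle) hbig
  have hm1 : m ψ₀ = 1 := by
    rw [hdψ] at hle
    by_contra h1
    have := Nat.mul_le_mul_right n (by omega : 2 ≤ m ψ₀)
    omega
  have hrest : ∀ ψ : IrrCharacter L, ψ ≠ ψ₀ → m ψ = 0 := by
    intro ψ hψ
    rw [← Finset.add_sum_erase _ _ (Finset.mem_univ ψ₀), hm1, one_mul, hdψ] at hdegL
    have h0 := Finset.sum_eq_zero_iff.1 (by omega :
      ∑ ψ ∈ Finset.univ.erase ψ₀, m ψ * H12.degree (ψ : L → ℂ) = 0) ψ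
      (Finset.mem_erase.2 ⟨hψ, Finset.mem_univ _⟩)
    exact (Nat.mul_eq_zero.1 h0).resolve_right (H12.irr_degree_pos ψ).ne'
  have hres : ∀ y : L, χ y = (ψ₀ : L → ℂ) y := fun y => by
    rw [hmy, Finset.sum_eq_single ψ₀ (fun ψ _ hψ => by rw [hrest ψ hψ]; simp) (by simp), hm1,
      Nat.cast_one, one_mul]
  have hfaith₀ : ∀ g : L, (ψ₀ : L → ℂ) g = (ψ₀ : L → ℂ) 1 → g = 1 := fun g hg => by
    rw [← hres, ← hres] at hg
    exact Subtype.ext (hfaith _ hg)
  obtain ⟨θ, ψ, h⟩ := exists_half D hM hgen hP'n he2 he ψ₀ hdψ hfaith₀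
  -- elements centralising `L` are central
  have hschur : ∀ d : A, (∀ l ∈ L, d * l = l * d) → d ∈ Subgroup.center A := by
    intro d hd
    let σ : Representation ℂ L (Fin n → ℂ) := ρ.comp L.subtype
    have hσ : σ.character = (ψ₀ : L → ℂ) := funext fun y => by
      rw [← hres, ← hρ]; rfl
    haveI := isIrreducible_of_irr σ ψ₀ hσ
    obtain ⟨c, hc⟩ := H12.exists_scalar_of_commute σ (ρ d) fun l => by
      show ρ d * ρ (l : A) = ρ (l : A) * ρ d
      rw [← map_mul, ← map_mul, hd l l.2]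
    exact hscal d c hc
  -- the group is the product of `L` and its centre
  have hGL : ∀ g : A, ∃ l : L, (l : A)⁻¹ * g ∈ Subgroup.center A := by
    intro g
    haveI : Fintype (P' : Subgroup L) := Fintype.ofFinite _
    set u₁ : ↥(P' : Subgroup L) := ⟨u, D.u_mem⟩ with hu₁
    have hupow : ((u : L) : A) ^ p = 1 := hpowP _ D.u_mem
    have huN : ∀ n₀ : A, ((u : L) : A) ≠ 1 → n₀ * (u : A) * n₀⁻¹ ∈ (P : Subgroup A) →
        ∀ x ∈ (P : Subgroup A), n₀ * x * n₀⁻¹ ∈ (P : Subgroup A) := by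
      intro n₀ hu1 hn x hx
      have h1 : x ∈ Subgroup.zpowers ((u : L) : A) := by
        rw [H20.PrimeSylow.zpowers_eq hP (show ((u : L) : A) ∈ (P : Subgroup A) from D.u_mem) hu1]; exact hx
      obtain ⟨i, rfl⟩ := Subgroup.mem_zpowers_iff.1 h1
      rw [← conj_zpow]
      exact zpow_mem hn i
    have hu1 : ((u : L) : A) ≠ 1 := fun h' => D.u_ne_one (Subtype.ext h')
    set y := g * (u : A) * g⁻¹ with hy
    have hyp : y ^ p = 1 := by rw [hy, conj_pow, hupow, mul_one, mul_inv_cancel]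
    obtain ⟨k, -, hk⟩ := (Nat.dvd_prime_pow hp').1
      ((pow_one p).symm ▸ orderOf_dvd_of_pow_eq_one hyp : orderOf y ∣ p ^ 1)
    obtain ⟨z, hz, hconj⟩ := H20.FreeSylow.exists_isConj_mem (P := P')
      (y := (⟨y, hmemL y hyp⟩ : L)) ⟨k, by rw [Subgroup.orderOf_mk, hk]⟩
    obtain ⟨l, hl⟩ := isConj_iff.1 hconj
    have hlA : (l : A) * y * (l : A)⁻¹ = (z : A) := congrArg Subtype.val hl
    set n₀ := (l : A) * g with hn₀
    have hn0u : n₀ * (u : A) * n₀⁻¹ = (z : A) := by rw [← hlA, hy, hn₀]; group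
    have hval : (ψ₀ : L → ℂ) z = (ψ₀ : L → ℂ) u := by
      rw [← hres, ← hres, ← hn0u]
      exact H12.IsCharacter.isClassFunction hχ _ n₀
    have hz1 : (⟨z, hz⟩ : ↥(P' : Subgroup L)) ≠ 1 := fun h' => by
      have h2 : (z : A) = 1 := congrArg (fun w : ↥(P' : Subgroup L) => ((w : L) : A)) h'
      rw [h2, mul_inv_eq_one] at hn0u
      exact hu1 (mul_left_cancel (hn0u.trans (mul_one n₀).symm))
    obtain ⟨α, hα⟩ : ∃ α : D.aut (H12.oneIrr H),
        (α : MulAut (P' : Subgroup L)) u₁ = ⟨z, hz⟩ := by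
      by_contra! hno
      obtain ⟨v, hv1, hvu, hcov, hsum⟩ := h.exists_orbits
      obtain ⟨β, hβ⟩ := hcov _ hz1 hno
      have hF := fun (α : D.aut (H12.oneIrr H)) (x : ↥(P' : Subgroup L)) => h.val_conj α.2 x
      have hvz : (ψ₀ : L → ℂ) (v : L) = (ψ₀ : L → ℂ) u := by
        rw [← hF β v, hβ]; exact hval
      have hne0 : (n : ℂ) ≠ 0 := Nat.cast_ne_zero.2 (by omega)
      have h1 := hsum (fun x => (ψ₀ : L → ℂ) x) hF
      have h2 := hsum (fun x => (ψ₀ : L → ℂ) x * conj ((ψ₀ : L → ℂ) x))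
        fun α x => by rw [hF α x]
      rw [h.sum_erase, hvz, nsmul_eq_mul, ← two_mul, ← mul_assoc, mul_comm (2 : ℂ),
        mul_assoc] at h1
      have hhalf : (ψ₀ : L → ℂ) u = -(1 / 2) := by
        have := mul_left_cancel₀ hne0 (show (n : ℂ) * (2 * (ψ₀ : L → ℂ) u) = (n : ℂ) * (-1) by
          rw [← h1]; ring)
        linear_combination this / 2
      rw [h.sum_erase_mul_conj, hvz, hhalf, nsmul_eq_mul] at h2
      simp [map_ofNat] at h2
      have h3 : (n : ℂ) * (2 * (n : ℂ) + 1) = 0 := by linear_combination 2 * h2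
      have h4 : n * (2 * n + 1) = 0 := by exact_mod_cast h3
      rcases Nat.mul_eq_zero.1 h4 with h5 | h5 <;> omega
    obtain ⟨t, -, ht⟩ := D.mem_aut_iff.1 α.2
    have htu : (t : A) * (u : A) * (t : A)⁻¹ = (z : A) := by
      have := ht u₁
      rw [hα] at this
      exact (congrArg Subtype.val this).symm
    set c := (t : A)⁻¹ * n₀ with hc
    have hcu : c * (u : A) = (u : A) * c := by
      have h1 : c * (u : A) * c⁻¹ = (u : A) := by
        rw [hc]
        calc (t : A)⁻¹ * n₀ * (u : A) * ((t : A)⁻¹ * n₀)⁻¹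
            = (t : A)⁻¹ * (n₀ * (u : A) * n₀⁻¹) * t := by group
          _ = (t : A)⁻¹ * ((t : A) * (u : A) * (t : A)⁻¹) * t := by rw [hn0u, htu]
          _ = (u : A) := by group
      exact mul_inv_eq_iff_eq_mul.1 h1
    have hβ : ∀ w ∈ (P' : Subgroup L), MulAut.conjNormal c w = w := by
      intro w hw
      refine Subtype.ext ?_
      rw [MulAut.conjNormal_apply]
      have h1 : (w : A) ∈ Subgroup.zpowers ((u : L) : A) := by
        rw [H20.PrimeSylow.zpowers_eq hP (show ((u : L) : A) ∈ (P : Subgroup A) from D.u_mem) hu1]; exact hw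
      obtain ⟨i, hi⟩ := Subgroup.mem_zpowers_iff.1 h1
      rw [← hi, ← conj_zpow, hcu, mul_inv_cancel_right]
    obtain ⟨x, hx, hxg⟩ := h.exists_aut_trivial hM hP'n (MulAut.conjNormal c) hβ
    have hd : (x : A)⁻¹ * c ∈ Subgroup.center A := hschur _ fun l' hl' => by
      have h1 := congrArg Subtype.val (hxg ⟨l', hl'⟩)
      rw [MulAut.conjNormal_apply] at h1
      push_cast at h1
      calc (x : A)⁻¹ * c * l' = (x : A)⁻¹ * (c * l' * c⁻¹) * c := by group
        _ = (x : A)⁻¹ * ((x : A) * l' * (x : A)⁻¹) * c := by rw [h1]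
        _ = l' * ((x : A)⁻¹ * c) := by group
    refine ⟨l⁻¹ * t * x, ?_⟩
    have : ((l⁻¹ * t * x : L) : A)⁻¹ * g = (x : A)⁻¹ * c := by
      push_cast
      rw [hc, hn₀]
      group
    rw [this]
    exact hd
  -- conclusion
  obtain ⟨e'⟩ := h.quotient_psl hM hgen hP'n
  let φ : L →* A ⧸ Subgroup.center A := (QuotientGroup.mk' _).comp L.subtype
  have hφs : Function.Surjective φ := by
    intro q
    obtain ⟨g, rfl⟩ := QuotientGroup.mk'_surjective _ q
    obtain ⟨l, hl⟩ := hGL g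
    exact ⟨l, QuotientGroup.eq.2 hl⟩
  have hker : Subgroup.center L = φ.ker := by
    ext l
    rw [MonoidHom.mem_ker, Subgroup.mem_center_iff]
    show (∀ g : L, g * l = l * g) ↔ QuotientGroup.mk' (Subgroup.center A) (l : A) = 1
    rw [QuotientGroup.mk'_apply, QuotientGroup.eq_one_iff]
    constructor
    · intro hl
      refine hschur _ fun l' hl' => ?_
      exact congrArg Subtype.val (hl ⟨l', hl'⟩).symm
    · intro hl g
      exact Subtype.ext (Subgroup.mem_center_iff.1 hl g)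
  exact ⟨((QuotientGroup.quotientMulEquivOfEq hker).trans
    (QuotientGroup.quotientKerEquivOfSurjective φ hφs)).symm.trans e'⟩

end H15.HalfDeg
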