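import Cfsg.Agent.H15.HalfDeg.Frame
import Cfsg.Agent.H12.Products

/-!
Half degree (helper15): non-negativity of class sums, split along the characters of the central
subgroup, and sums over the singular elements.
-/

set_option autoImplicit false
set_option linter.style.haveILetI false
set_option linter.unusedSectionVars false

open Cfsg
open scoped ComplexConjugate

namespace H15.HalfDeg

open H85.D1

universe u

variable {G : Type u} [Group G] [Fintype G]

/-- The class sum `∑ ψ(x) ψ(x') conj ψ(y) / ψ(1)`. -/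
noncomputable def classSum (x x' y : G) : ℂ :=
  ∑ i : IrrCharacter G,
    (i : G → ℂ) x * (i : G → ℂ) x' * conj ((i : G → ℂ) y) / (i : G → ℂ) 1

theorem classSum_nonneg (x x' y : G) : ∃ r : ℝ, 0 ≤ r ∧ classSum x x' y = r := by
  classical
  have h1 : (Nat.card G : ℂ) * classSum x x' y =
      ((∑ a : G, ∑ t : G, if t * (x * (a * x' * a⁻¹)) * t⁻¹ = y then 1 else 0 : ℕ) : ℂ) := by
    rw [classSum, Finset.mul_sum]
    have h2 : ∀ i : IrrCharacter G,
        (Nat.card G : ℂ) * ((i : G → ℂ) x * (i : G → ℂ) x' * conj ((i : G → ℂ) y) / (i : G → ℂ) 1) =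
        ∑ a : G, (i : G → ℂ) (x * (a * x' * a⁻¹)) * conj ((i : G → ℂ) y) := fun i => by
      rw [← Finset.sum_mul, H12.irr_class_product]
      ring
    rw [Finset.sum_congr rfl fun i _ => h2 i, Finset.sum_comm]
    push_cast
    exact Finset.sum_congr rfl fun a _ => sum_irr_conj _ _
  set N : ℕ := ∑ a : G, ∑ t : G, if t * (x * (a * x' * a⁻¹)) * t⁻¹ = y then 1 else 0
  refine ⟨(N : ℝ) / Nat.card G, by positivity, ?_⟩
  push_cast
  rw [eq_div_iff H12.card_ne_zero', mul_comm]
  exact h1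

variable {p : ℕ} [hp : Fact p.Prime] {P : Sylow p G} {u a : G} {H : Subgroup G} [Fintype H]

local notation "NP" => Subgroup.normalizer ((P : Subgroup G) : Set G)

variable (D : Setting P u a H)

open Classical in
/-- The part of the class sum over the block labelled by `φ`. -/
noncomputable def blockSum (φ : IrrCharacter H) (x x' y : G) : ℂ :=
  ∑ i ∈ (D.supp φ).toFinset,
    (i : G → ℂ) x * (i : G → ℂ) x' * conj ((i : G → ℂ) y) / (i : G → ℂ) 1

include D

variable {M : Ideal AlgInt} [hMp : M.IsPrime]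

theorem sum_mul_classSum (hM : IsPModular p M) (hH : H ≤ Subgroup.center G) (φ : IrrCharacter H)
    {x : G} (hx : x ∈ (P : Subgroup G)) (hx1 : x ≠ 1) (x' y : G) :
    ∑ h : H, (φ : H → ℂ) h * classSum x x' (y * h) =
      (Nat.card H : ℂ) * blockSum D φ x x' y := by
  classical
  simp only [classSum, Finset.mul_sum, blockSum]
  rw [Finset.sum_comm, ← Finset.sum_subset (Finset.subset_univ (D.supp φ).toFinset)]
  · refine Finset.sum_congr rfl fun i hi => ?_
    rw [Set.mem_toFinset] at hi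
    have h1 := H12.sum_mul_conj_eq_card_mul (φ : H → ℂ) (φ : H → ℂ)
    rw [H12.classInner_irr_self, mul_one] at h1
    rw [← h1, Finset.sum_mul]
    refine Finset.sum_congr rfl fun h _ => ?_
    rw [central_mul D hH hM hi y h, map_mul]
    ring
  · intro i _ hi
    rw [Set.mem_toFinset] at hi
    by_cases hix : (i : G → ℂ) x = 0
    · simp [hix]
    obtain ⟨φ', hφ'⟩ := exists_supp_of_ne_zero D hH (x := ⟨x, hx⟩)
      (fun h' => hx1 (congrArg Subtype.val h')) hix
    have hne : φ ≠ φ' := fun h' => hi (h' ▸ hφ')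
    have h1 := H12.sum_mul_conj_eq_card_mul (φ : H → ℂ) (φ' : H → ℂ)
    rw [H12.classInner_irr_ne hne, mul_zero] at h1
    rw [Finset.sum_congr rfl fun h _ => show (φ : H → ℂ) h *
        ((i : G → ℂ) x * (i : G → ℂ) x' * conj ((i : G → ℂ) (y * h)) / (i : G → ℂ) 1) =
        ((i : G → ℂ) x * (i : G → ℂ) x' * conj ((i : G → ℂ) y) / (i : G → ℂ) 1) *
          ((φ : H → ℂ) h * conj ((φ' : H → ℂ) h)) by
      rw [central_mul D hH hM hφ' y h, map_mul]; ring, ← Finset.mul_sum, h1, mul_zero]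

/-- The principal part dominates every other part. -/
theorem blockSum_bound (hM : IsPModular p M) (hH : H ≤ Subgroup.center G) {x : G}
    (hx : x ∈ (P : Subgroup G)) (hx1 : x ≠ 1) (x' y : G) :
    ∃ r : ℝ, 0 ≤ r ∧ blockSum D (H12.oneIrr H) x x' y = r ∧
      ∀ φ : IrrCharacter H, ‖blockSum D φ x x' y‖ ≤ r := by
  classical
  choose r hr0 hr using fun h : H => classSum_nonneg x x' (y * h)
  have hz : (Nat.card H : ℝ) ≠ 0 := Nat.cast_ne_zero.2 Nat.card_pos.ne'
  refine ⟨(∑ h, r h) / Nat.card H,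
    div_nonneg (Finset.sum_nonneg fun h _ => hr0 h) (Nat.cast_nonneg _), ?_, fun φ => ?_⟩
  · have h1 := sum_mul_classSum D hM hH (H12.oneIrr H) hx hx1 x' y
    simp only [H12.oneIrr_apply, one_mul, hr] at h1
    push_cast
    rw [eq_div_iff (Nat.cast_ne_zero.2 Nat.card_pos.ne'), h1, mul_comm]
  · have h1 := congrArg (fun z => ‖z‖) (sum_mul_classSum D hM hH φ hx hx1 x' y)
    simp only [norm_mul, Complex.norm_natCast] at h1
    rw [le_div_iff₀ (lt_of_le_of_ne (Nat.cast_nonneg _) hz.symm), mul_comm, ← h1]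
    refine (norm_sum_le _ _).trans (Finset.sum_le_sum fun h _ => le_of_eq ?_)
    rw [norm_mul, norm_lin D hH φ h, one_mul, hr, Complex.norm_real,
      Real.norm_of_nonneg (hr0 h)]

/-- Sums over the singular elements. -/
theorem sum_singular [Fintype (P : Subgroup G)] [DecidableEq (P : Subgroup G)]
    (hH : H ≤ Subgroup.center G) {F : G → ℝ}
    (hF : ∀ g t : G, F (t * g * t⁻¹) = F g)
    (hFH : ∀ x ∈ (P : Subgroup G), x ≠ 1 → ∀ h : H, F (x * h) = F x) :
    ((Nat.card (D.aut (H12.oneIrr H)) * p : ℕ) : ℝ) *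
        ∑ g ∈ Finset.univ.filter (fun g : G => p ∣ orderOf g), F g =
      (Nat.card G : ℝ) * ∑ x ∈ Finset.univ.erase (1 : (P : Subgroup G)), F x := by
  classical
  have hNP : Nat.card NP = p * Nat.card H * Nat.card (D.aut (H12.oneIrr H)) := by
    rw [← D.card_orbit (H12.oneIrr H), orbit_eq D hH, D.card_stab, D.card_centralizer]
    simp
  let μ : G × (↥(P : Subgroup G) × ↥H) → G := fun z => z.1 * ((z.2.1 : G) * (z.2.2 : G)) * z.1⁻¹
  let T : Finset (G × (↥(P : Subgroup G) × ↥H)) :=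
    Finset.univ ×ˢ ((Finset.univ.erase 1) ×ˢ Finset.univ)
  have hmem : ∀ z ∈ T, (z.2.1 : G) ≠ 1 := fun z hz => by
    simp only [T, Finset.mem_product] at hz
    exact fun h' => Finset.ne_of_mem_erase hz.2.1 (Subtype.ext h')
  have hmaps : ∀ z ∈ T, μ z ∈ Finset.univ.filter (fun g : G => p ∣ orderOf g) := fun z hz => by
    rw [Finset.mem_filter]
    refine ⟨Finset.mem_univ _, ?_⟩
    simp only [μ]
    rw [H20.orderOf_conj']
    exact D.dvd_orderOf_mul z.2.1.2 (hmem z hz) z.2.2.2
  have hfib : ∀ g ∈ Finset.univ.filter (fun g : G => p ∣ orderOf g),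
      (T.filter fun z => μ z = g).card = Nat.card NP := by
    intro g hg
    obtain ⟨x₀, hx₀, hx₀1, k₀, hk₀, hconj⟩ := D.exists_isConj_singular (Finset.mem_filter.1 hg).2
    obtain ⟨c, hc⟩ := isConj_iff.1 hconj.symm
    rw [Nat.card_eq_fintype_card, ← Finset.card_univ]
    refine (Finset.card_bij (fun (n : ↥NP) _ => ((c * (n : G), ((⟨(n : G)⁻¹ * x₀ * n,
      (Subgroup.mem_normalizer_iff''.1 n.2 x₀).1 hx₀⟩ : ↥(P : Subgroup G)), (⟨k₀, hk₀⟩ : ↥H))) :
        G × (↥(P : Subgroup G) × ↥H))) (fun n _ => ?_) ?_ ?_).symm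
    · refine Finset.mem_filter.2 ⟨?_, ?_⟩
      · simp only [T, Finset.mem_product, Finset.mem_univ, true_and, and_true, Finset.mem_erase]
        intro h'
        have h2 : (n : G)⁻¹ * x₀ * n = 1 := congrArg Subtype.val h'
        exact hx₀1 (by
          have := congrArg (fun w => (n : G) * w * (n : G)⁻¹) h2
          simpa [mul_assoc] using this)
      · simp only [μ]
        rw [← hc, show (n : G)⁻¹ * x₀ * n * k₀ = (n : G)⁻¹ * (x₀ * k₀) * n by
          rw [mul_assoc ((n : G)⁻¹ * x₀), Subgroup.mem_center_iff.1 (hH hk₀) (n : G)]; group]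
        group
    · intro n₁ _ n₂ _ h'
      exact Subtype.ext (mul_left_cancel (congrArg Prod.fst h'))
    · rintro ⟨d, x, k⟩ hz
      obtain ⟨hzT, hzg⟩ := Finset.mem_filter.1 hz
      have hx1 : (x : G) ≠ 1 := hmem _ hzT
      simp only [μ] at hzg
      set n := c⁻¹ * d with hn
      have he : n * (x : G) * n⁻¹ * (k : G) = x₀ * k₀ := by
        have h3 : n * ((x : G) * k) * n⁻¹ = x₀ * k₀ := by
          rw [hn]
          calc c⁻¹ * d * ((x : G) * k) * (c⁻¹ * d)⁻¹ = c⁻¹ * (d * ((x : G) * k) * d⁻¹) * c := by group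
            _ = c⁻¹ * g * c := by rw [hzg]
            _ = _ := by rw [← hc]; group
        rw [← h3, mul_assoc (n * (x : G)), Subgroup.mem_center_iff.1 (hH k.2) n⁻¹]
        group
      have hk : (k : G) = k₀ := by
        have h4 : x₀⁻¹ * (n * (x : G) * n⁻¹) = k₀ * (k : G)⁻¹ := by
          rw [eq_mul_inv_iff_mul_eq, mul_assoc, he, inv_mul_cancel_left]
        have h5 : (n * (x : G) * n⁻¹) = x₀ * (k₀ * (k : G)⁻¹) := by rw [← h4, mul_inv_cancel_left]
        have h6 : (k₀ * (k : G)⁻¹) ∈ H := mul_mem hk₀ (inv_mem k.2)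
        have hxp : ∀ y : ↥(P : Subgroup G), (y : G) ^ p = 1 := fun y => by
          have := pow_card_eq_one' (G := ↥(P : Subgroup G)) (x := y)
          rw [D.hP] at this
          exact congrArg Subtype.val this
        have h7 : (k₀ * (k : G)⁻¹) ^ p = 1 := by
          have h8 := congrArg (· ^ p) h5
          simp only [conj_pow, (D.comm hx₀ h6).mul_pow, hxp x,
            show x₀ ^ p = 1 from hxp ⟨x₀, hx₀⟩, mul_one, mul_inv_cancel, one_mul] at h8
          exact h8.symm
        have h9 : orderOf (k₀ * (k : G)⁻¹) = 1 := by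
          rcases (Nat.dvd_prime hp.out).1 (orderOf_dvd_of_pow_eq_one h7) with h | h
          · exact h
          · exact absurd (h ▸ dvd_rfl) (D.not_dvd_orderOf h6)
        exact (mul_inv_eq_one.1 (orderOf_eq_one_iff.1 h9)).symm
      rw [hk, mul_left_inj] at he
      have hnN : n ∈ NP := D.mem_normalizer x.2 hx1 hx₀ he
      refine ⟨⟨n, hnN⟩, Finset.mem_univ _, ?_⟩
      refine Prod.ext (by simp [hn]) (Prod.ext (Subtype.ext ?_) (Subtype.ext hk.symm))
      show n⁻¹ * x₀ * n = x
      rw [← he]; group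
  have h1 : ∑ z ∈ T, F (μ z) =
      (Nat.card NP : ℝ) * ∑ g ∈ Finset.univ.filter (fun g : G => p ∣ orderOf g), F g := by
    rw [← Finset.sum_fiberwise_of_maps_to hmaps, Finset.mul_sum]
    refine Finset.sum_congr rfl fun g hg => ?_
    rw [Finset.sum_congr rfl fun z hz => congrArg F (Finset.mem_filter.1 hz).2, Finset.sum_const,
      hfib g hg, nsmul_eq_mul]
  have h2 : ∑ z ∈ T, F (μ z) = (Nat.card G : ℝ) * ((Nat.card H : ℝ) *
      ∑ x ∈ Finset.univ.erase (1 : (P : Subgroup G)), F x) := by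
    simp only [T, μ, Finset.sum_product, hF]
    rw [Finset.sum_const, Finset.card_univ, nsmul_eq_mul, ← Nat.card_eq_fintype_card,
      Finset.mul_sum (a := (Nat.card H : ℝ))]
    congr 1
    refine Finset.sum_congr rfl fun x hx => ?_
    rw [Finset.sum_congr rfl (g := fun _ => F x) fun (k : ↥H) _ =>
      hFH x x.2 (fun h' => Finset.ne_of_mem_erase hx (Subtype.ext h')) k]
    simp [Nat.card_eq_fintype_card]
  rw [h2, hNP] at h1
  have hz : (Nat.card H : ℝ) ≠ 0 := Nat.cast_ne_zero.2 Nat.card_pos.ne'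
  push_cast at h1 ⊢
  exact mul_left_cancel₀ hz (by linear_combination -h1)

end H15.HalfDeg
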