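import Cfsg.Agent.H15.HalfDeg.ExcColY
import Cfsg.Agent.H18.CentralChar

/-!
Half degree (helper15): the situation of a faithful irreducible character of degree
`e = (p - 1) / 2` of a group generated by its elements of order `p`.
-/

set_option autoImplicit false
set_option linter.style.haveILetI false
set_option linter.unusedSectionVars false

open Cfsg
open scoped ComplexConjugate

namespace H15.HalfDeg

open H85.D1

universe u

/-- In a faithful irreducible character, elements of maximal absolute value are central. -/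
theorem mem_center_of_norm {A : Type*} [Group A] [Fintype A] (χ : IrrCharacter A)
    (hfaith : ∀ g : A, (χ : A → ℂ) g = (χ : A → ℂ) 1 → g = 1) {g : A}
    (hg : ‖(χ : A → ℂ) g‖ = (H12.degree (χ : A → ℂ) : ℝ)) : g ∈ Subgroup.center A := by
  obtain ⟨n, ρ, hρ, he⟩ := χ.2
  rw [← he] at hg
  rw [H12.degree_character] at hg
  obtain ⟨c, hc⟩ := H12.exists_scalar_of_norm_eq ρ g hg
  refine Subgroup.mem_center_iff.2 fun x => ?_
  have h1 : ρ (x * g) = ρ (g * x) := by
    rw [map_mul, map_mul, hc]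
    ext v
    simp
  have h2 : (χ : A → ℂ) (x * g * (g * x)⁻¹) = (χ : A → ℂ) 1 := by
    rw [← he]
    show LinearMap.trace ℂ _ (ρ (x * g * (g * x)⁻¹)) = LinearMap.trace ℂ _ (ρ 1)
    rw [map_mul, h1, ← map_mul, mul_inv_cancel]
  exact mul_inv_eq_one.1 (hfaith _ h2)

variable {G : Type u} [Group G] [Fintype G] {p : ℕ} [hp : Fact p.Prime]
  {P : Sylow p G} {u a : G} {H : Subgroup G} [Fintype H]

local notation "NP" => Subgroup.normalizer ((P : Subgroup G) : Set G)

section Central

variable (D : Setting P u a H)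
include D
variable (hH : H ≤ Subgroup.center G)
include hH

theorem stab_eq (φ : IrrCharacter H) : D.stab φ = NP := by
  refine le_antisymm (fun n hn => hn.1) fun n hn => ⟨hn, fun h h' he => ?_⟩
  rw [Subgroup.mem_center_iff.1 (hH h.2) n, mul_inv_cancel_right] at he
  rw [show h' = h from Subtype.ext he]

theorem aut_eq (φ : IrrCharacter H) : D.aut φ = D.aut (H12.oneIrr H) := by
  rw [Setting.aut, Setting.aut, stab_eq D hH φ, stab_eq D hH (H12.oneIrr H)]

theorem sum_aut_eq (φ : IrrCharacter H) [Fintype (D.aut φ)] [Fintype (D.aut (H12.oneIrr H))]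
    (F : MulAut (P : Subgroup G) → ℂ) :
    ∑ α : D.aut φ, F α = ∑ α : D.aut (H12.oneIrr H), F α :=
  Fintype.sum_equiv (MulEquiv.subgroupCongr (aut_eq D hH φ)).toEquiv _ _ fun _ => rfl

theorem orbit_eq (φ : IrrCharacter H) : D.orbit φ = {φ} := by
  refine Set.Subset.antisymm ?_ (Set.singleton_subset_iff.2 (D.mem_orbit_self _))
  rintro θ ⟨n, hn, rfl⟩
  rw [Set.mem_singleton_iff, D.irrCongr_eq_iff _ hn, stab_eq D hH φ]
  exact hn

theorem lin_one (φ : IrrCharacter H) : (φ : H → ℂ) 1 = 1 :=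
  H12.irr_apply_one_of_comm (fun x y => Subtype.ext (Subgroup.mem_center_iff.1 (hH y.2) x)) φ

theorem norm_lin (φ : IrrCharacter H) (h : H) : ‖(φ : H → ℂ) h‖ = 1 := by
  obtain ⟨l, hl⟩ := H12.exists_monoidHom_of_apply_one_eq_one (H12.isCharacter_irr φ)
    (lin_one D hH φ)
  rw [← congrFun hl h]
  refine H12.norm_eq_one_of_pow_eq_one (n := orderOf h) (orderOf_pos h).ne' ?_
  rw [← Units.val_pow_eq_pow_val, ← map_pow, pow_orderOf_eq_one, map_one, Units.val_one]

variable {M : Ideal AlgInt} [hMp : M.IsPrime] (hM : IsPModular p M)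
include hM

/-- Values on the singular elements. -/
theorem apply_mul {φ : IrrCharacter H} {χ : IrrCharacter G} (hχ : χ ∈ D.supp φ) {x : G}
    (hx : x ∈ (P : Subgroup G)) (hx1 : x ≠ 1) (h : H) :
    (χ : G → ℂ) (x * h) = D.col φ χ x * (φ : H → ℂ) h := by
  classical
  rw [D.apply_eq_sum_orbit hM hχ hx hx1 h]
  refine (Finset.sum_congr ?_ fun _ _ => rfl).trans (Finset.sum_singleton _ φ)
  ext θ
  simp [orbit_eq D hH φ]

theorem apply_eq_col {φ : IrrCharacter H} {χ : IrrCharacter G} (hχ : χ ∈ D.supp φ) {x : G}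
    (hx : x ∈ (P : Subgroup G)) (hx1 : x ≠ 1) : (χ : G → ℂ) x = D.col φ χ x := by
  have h := apply_mul D hH hM hχ hx hx1 1
  rwa [Subgroup.coe_one, mul_one, lin_one D hH φ, mul_one] at h

/-- The central subgroup acts by the character labelling the block. -/
theorem central_mul {φ : IrrCharacter H} {χ : IrrCharacter G} (hχ : χ ∈ D.supp φ) (g : G) (h : H) :
    (χ : G → ℂ) (g * h) = (φ : H → ℂ) h * (χ : G → ℂ) g := by
  obtain ⟨x, hx, hne⟩ := id hχ
  have hx1 : (x : G) ≠ 1 := fun h' => hx (Subtype.ext h')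
  have h1 := H18.omegaZ_mul χ (hH h.2) (x : G)
  rw [apply_mul D hH hM hχ x.2 hx1 h, apply_eq_col D hH hM hχ x.2 hx1, mul_comm] at h1
  rw [H18.omegaZ_mul χ (hH h.2) g, ← mul_right_cancel₀ hne h1]

theorem apply_center {φ : IrrCharacter H} {χ : IrrCharacter G} (hχ : χ ∈ D.supp φ) (h : H) :
    (χ : G → ℂ) h = (φ : H → ℂ) h * (H12.degree (χ : G → ℂ) : ℂ) := by
  have h1 := central_mul D hH hM hχ 1 h
  rwa [one_mul, H12.irr_apply_one] at h1

theorem supp_inj {φ φ' : IrrCharacter H} {χ : IrrCharacter G} (hχ : χ ∈ D.supp φ)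
    (hχ' : χ ∈ D.supp φ') : φ = φ' := Subtype.ext (funext fun h => by
  have h1 := apply_center D hH hM hχ h
  rw [apply_center D hH hM hχ' h] at h1
  exact (mul_right_cancel₀ (Nat.cast_ne_zero.2 (H12.irr_degree_pos χ).ne') h1).symm)

omit hM in
theorem exists_supp_of_ne_zero {χ : IrrCharacter G} {x : (P : Subgroup G)} (hx : x ≠ 1)
    (hne : (χ : G → ℂ) x ≠ 0) : ∃ φ, χ ∈ D.supp φ := by
  by_contra hall
  refine hne ?_
  have h1 := D.apply_eq_sum_col χ x.2 (1 : H)
  rw [OneMemClass.coe_one, mul_one] at h1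
  rw [h1]
  refine Finset.sum_eq_zero fun φ _ => ?_
  have h2 : D.col φ χ x = 0 := by
    by_contra h2
    exact hall ⟨φ, x, hx, h2⟩
  rw [h2, zero_mul]

end Central

/-- A faithful irreducible character of degree `e = (p - 1) / 2` in a group generated by elements
of order `p`, after the reduction. -/
structure Half (D : Setting P u a H) [Fintype (D.aut (H12.oneIrr H))] (e : ℕ)
    (χ : IrrCharacter G) (θ : IrrCharacter H) (ψ : (P : Subgroup G) →* ℂˣ) : Prop where
  two_le : 2 ≤ e
  hpe : 2 * e + 1 = p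
  center_eq : H = Subgroup.center G
  perfect : ∀ l : G →* ℂˣ, l = 1
  card_aut : Nat.card (D.aut (H12.oneIrr H)) = e
  mem_supp : χ ∈ D.supp θ
  degree_eq : H12.degree (χ : G → ℂ) = e
  faithful : ∀ g : G, (χ : G → ℂ) g = (χ : G → ℂ) 1 → g = 1
  psi_ne : ψ ≠ 1
  val : ∀ x : (P : Subgroup G), x ≠ 1 → (χ : G → ℂ) x =
    ∑ α : D.aut (H12.oneIrr H), (ψ ((α : MulAut (P : Subgroup G)) x) : ℂ)

/-- The reduction. -/
theorem exists_half (D : Setting P u a H) [Fintype (D.aut (H12.oneIrr H))] {M : Ideal AlgInt}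
    [hMp : M.IsPrime] (hM : IsPModular p M)
    (hgen : Subgroup.closure {g : G | g ^ p = 1} = ⊤) (hnn : ¬ (P : Subgroup G).Normal) {e : ℕ}
    (he : 2 ≤ e) (hpe : 2 * e + 1 = p) (χ : IrrCharacter G)
    (hdeg : H12.degree (χ : G → ℂ) = e)
    (hfaith : ∀ g : G, (χ : G → ℂ) g = (χ : G → ℂ) 1 → g = 1) :
    ∃ θ ψ, Half D e χ θ ψ := by
  classical
  haveI : Fintype (P : Subgroup G) := Fintype.ofFinite _
  obtain ⟨x₀, hx₀, hne⟩ : ∃ x ∈ (P : Subgroup G),
      ‖(χ : G → ℂ) x‖ ≠ (H12.degree (χ : G → ℂ) : ℝ) := by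
    by_contra! hall
    refine hnn ⟨fun x hx g => ?_⟩
    rw [Subgroup.mem_center_iff.1 (mem_center_of_norm χ hfaith (hall x hx)) g, mul_inv_cancel_right]
    exact hx
  have hx₀1 : x₀ ≠ 1 := fun h => hne (by rw [h, H12.irr_apply_one, Complex.norm_natCast])
  set f := Nat.card (D.aut (H12.oneIrr H)) with hfdef
  have hf : f + 1 ≠ p := fun hf => hne (D.norm_eq_of_transitive hf χ (by omega) hx₀)
  have hf' : 2 * f + 1 ≤ p := by
    obtain ⟨S₀⟩ := D.exists_shape hM (H12.oneIrr H)
    have h := S₀.card_Y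
    rw [← hfdef] at h
    rcases Nat.lt_or_ge (Nat.card S₀.Y) 2 with h2 | h2
    · interval_cases h3 : Nat.card S₀.Y
      · omega
      · omega
    · have := Nat.mul_le_mul_right f h2
      omega
  obtain ⟨θ, hθ⟩ := D.exists_mem_supp_of_lt hM (χ := χ) (by omega)
  haveI : Fintype (D.aut θ) := Fintype.ofFinite _
  haveI : Fintype (D.orbit θ) := Fintype.ofFinite _
  obtain ⟨S⟩ := D.exists_shape hM θ
  rcases (D.union_eq_supp S).symm.subset hθ with h | h
  · exact absurd (D.norm_eq_of_colX hM hθ (S.εX_eq χ h) (S.colX χ h) (by omega) hx₀) hne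
  obtain ⟨ψ, hψ, hcol⟩ := S.colY χ h
  obtain ⟨hε, hdeg'⟩ := D.colY_degree_half hM hθ hψ S.ε_eq hcol hf' (by omega)
  rw [← hfdef] at hdeg'
  -- the trivial inertial index does not occur
  have hf2 : 2 ≤ f := by
    have h0 : 0 < f := hfdef ▸ Nat.card_pos
    by_contra h1
    have hf1 : f = 1 := by omega
    obtain ⟨g, hg⟩ := D.exists_terms hM θ
    have hI : Fintype.card (D.orbit θ × D.aut θ) = 1 := by
      rw [Fintype.card_prod, ← Nat.card_eq_fintype_card, ← Nat.card_eq_fintype_card,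
        D.card_orbit_mul, ← hfdef, hf1]
    obtain ⟨i₀, hi₀⟩ := Fintype.card_eq_one_iff.1 hI
    have h1' := hg χ hθ ψ S.ε hcol ⟨x₀, hx₀⟩ fun h => hx₀1 (congrArg Subtype.val h)
    rw [hε, Fintype.sum_eq_single i₀ fun i hi => absurd (hi₀ i) hi] at h1'
    apply hne
    rw [show (χ : G → ℂ) x₀ = _ from h1', norm_mul, H12.norm_eq_one_of_pow_eq_one
      (hp.out.ne_zero) (show ((twist ψ (g i₀) ⟨x₀, hx₀⟩ : ℂˣ) : ℂ) ^ p = 1 by
        have hxp := pow_card_eq_one' (G := (P : Subgroup G)) (x := ⟨x₀, hx₀⟩)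
        rw [D.hP] at hxp
        rw [← Units.val_pow_eq_pow_val, ← map_pow, hxp, map_one, Units.val_one]), hdeg', hf1]
    simp
  have hperf : ∀ l : G →* ℂˣ, l = 1 := fun l => by
    haveI : Nontrivial (D.aut (H12.oneIrr H)) := Finite.one_lt_card_iff_nontrivial.1
      (show 1 < Nat.card (D.aut (H12.oneIrr H)) by rw [← hfdef]; omega)
    obtain ⟨α, hα⟩ := exists_ne (1 : D.aut (H12.oneIrr H))
    set lP := l.comp (P : Subgroup G).subtype with hlP
    have hinv : ∀ y t : G, l (t * y * t⁻¹) = l y := fun y t => by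
      rw [map_mul, map_mul, map_inv, mul_comm (l t), mul_inv_cancel_right]
    have hlP1 : lP = 1 := by
      by_contra hne
      refine hα (twist_injective D.hP hne (MonoidHom.ext fun y => ?_))
      obtain ⟨t, -, ht⟩ := D.mem_aut_iff.1 α.2
      show l (((α : MulAut (P : Subgroup G)) y : (P : Subgroup G)) : G) = l (y : G)
      rw [ht, hinv]
    refine MonoidHom.eq_of_eqOn_dense hgen fun y hy => ?_
    obtain ⟨k, -, hk⟩ := (Nat.dvd_prime_pow hp.out).1
      ((pow_one p).symm ▸ orderOf_dvd_of_pow_eq_one hy : orderOf y ∣ p ^ 1)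
    obtain ⟨z, hz, hconj⟩ := H20.FreeSylow.exists_isConj_mem (P := P) (y := y) ⟨k, hk⟩
    obtain ⟨t, ht⟩ := isConj_iff.1 hconj
    have h1 : l z = 1 := DFunLike.congr_fun hlP1 ⟨z, hz⟩
    rw [← ht, hinv] at h1
    exact h1
  have hO0 : 0 < Nat.card (D.orbit θ) :=
    Nat.card_pos_iff.2 ⟨⟨⟨θ, D.mem_orbit_self θ⟩⟩, inferInstance⟩
  have hdO : H12.degree (θ : H → ℂ) * Nat.card (D.orbit θ) = 1 := by
    by_contra hc
    have := Nat.mul_pos (H12.irr_degree_pos θ) hO0
    exact D.false_of_colY_half hM hperf S h hε hf2 (by omega) (by rw [← hfdef]; exact hdeg')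
      (by omega)
  have hd1 : H12.degree (θ : H → ℂ) = 1 := Nat.eq_one_of_mul_eq_one_right hdO
  have hO1 : Nat.card (D.orbit θ) = 1 := Nat.eq_one_of_mul_eq_one_left hdO
  have hfe : f = e := by rw [hd1, mul_one] at hdeg'; omega
  have horb : D.orbit θ = {θ} := by
    obtain ⟨hsub, -⟩ := Nat.card_eq_one_iff_unique.1 hO1
    exact Set.Subset.antisymm (fun φ hφ => Set.mem_singleton_iff.2
      (congrArg Subtype.val (hsub.elim ⟨φ, hφ⟩ ⟨θ, D.mem_orbit_self θ⟩)))
      (Set.singleton_subset_iff.2 (D.mem_orbit_self θ))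
  have haut : D.aut θ = D.aut (H12.oneIrr H) := by
    refine Subgroup.eq_of_le_of_card_ge (D.aut_le θ) ?_
    have := D.card_orbit_mul θ
    rw [hO1, one_mul] at this
    exact this.ge
  have hθ1 : (θ : H → ℂ) 1 = 1 := by rw [H12.irr_apply_one, hd1, Nat.cast_one]
  have hcolval : ∀ x : (P : Subgroup G), x ≠ 1 → D.col θ χ x =
      ∑ α : D.aut (H12.oneIrr H), (ψ ((α : MulAut (P : Subgroup G)) x) : ℂ) := fun x hx => by
    rw [hcol x hx, hε, Int.cast_one, one_mul]
    exact Fintype.sum_equiv (MulEquiv.subgroupCongr haut).toEquiv _ _ fun _ => rfl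
  have hval : ∀ x : (P : Subgroup G), x ≠ 1 → (χ : G → ℂ) x = D.col θ χ x := fun x hx => by
    have h1 := D.apply_eq_sum_orbit hM hθ x.2 (fun h => hx (Subtype.ext h)) (1 : H)
    rw [OneMemClass.coe_one, mul_one] at h1
    rw [h1]
    refine (Finset.sum_congr ?_ fun _ _ => rfl).trans ((Finset.sum_singleton _ θ).trans ?_)
    · ext φ; simp [horb]
    · rw [hθ1, mul_one]
  have hS : ∑ x ∈ Finset.univ.erase (1 : (P : Subgroup G)), D.col θ χ x = -(e : ℂ) := by
    rw [Finset.sum_congr rfl fun x hx => hcolval x (Finset.ne_of_mem_erase hx), Finset.sum_comm,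
      Finset.sum_congr rfl fun (α : D.aut (H12.oneIrr H)) _ => show
        ∑ x ∈ Finset.univ.erase (1 : (P : Subgroup G)),
          (ψ ((α : MulAut (P : Subgroup G)) x) : ℂ) = -1 from
        sum_erase_one_lin (ψ := twist ψ α) (mt twist_eq_one_iff.1 hψ), Finset.sum_const,
      Finset.card_univ, ← Nat.card_eq_fintype_card, ← hfdef, hfe, nsmul_eq_mul]
    ring
  -- the centralizer part acts by scalars
  have hscal : ∀ h : H, (χ : G → ℂ) h = (e : ℂ) * (θ : H → ℂ) h := by
    choose m hm using fun φ : IrrCharacter H => D.exists_sum_col φ χ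
    have htot : ∑ φ : IrrCharacter H, H12.degree (φ : H → ℂ) * (p * m φ) = 0 := by
      have h0 : ∑ x : (P : Subgroup G), (χ : G → ℂ) x = 0 := by
        rw [← Finset.add_sum_erase _ _ (Finset.mem_univ (1 : (P : Subgroup G))),
          OneMemClass.coe_one, H12.irr_apply_one, hdeg,
          Finset.sum_congr rfl fun x hx => hval x (Finset.ne_of_mem_erase hx), hS, add_neg_cancel]
      have h1 : ((∑ φ : IrrCharacter H, H12.degree (φ : H → ℂ) * (p * m φ) : ℕ) : ℂ) = 0 := by
        rw [← h0, Nat.cast_sum,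
          Finset.sum_congr rfl fun (x : ↥(P : Subgroup G)) _ => show (χ : G → ℂ) (x : G) =
          ∑ φ : IrrCharacter H, D.col φ χ (x : G) * (φ : H → ℂ) 1 by
            have := D.apply_eq_sum_col χ x.2 (1 : H)
            rwa [OneMemClass.coe_one, mul_one] at this, Finset.sum_comm]
        refine Finset.sum_congr rfl fun φ _ => ?_
        rw [← Finset.sum_mul, hm, H12.irr_apply_one]
        push_cast
        ring
      exact_mod_cast h1
    have hm0 : ∀ φ, m φ = 0 := fun φ => by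
      rcases Nat.mul_eq_zero.1 (Finset.sum_eq_zero_iff.1 htot φ (Finset.mem_univ φ)) with h | h
      · exact absurd h (H12.irr_degree_pos φ).ne'
      · exact (Nat.mul_eq_zero.1 h).resolve_left hp.out.ne_zero
    have hone : ∀ φ, D.col φ χ 1 = if φ = θ then (e : ℂ) else 0 := fun φ => by
      have h1 := hm φ
      rw [← Finset.add_sum_erase _ _ (Finset.mem_univ (1 : (P : Subgroup G))), hm0,
        OneMemClass.coe_one, Nat.cast_zero, mul_zero] at h1
      split_ifs with hφ
      · subst hφ; rw [hS] at h1; linear_combination h1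
      · rw [Finset.sum_eq_zero fun x hx => D.col_eq_zero_of_notMem hM hθ (fun h' => hφ
          (Set.mem_singleton_iff.1 (horb ▸ h'))) x.2
          fun h' => Finset.ne_of_mem_erase hx (Subtype.ext h'), add_zero] at h1
        exact h1
    intro h
    have h1 := D.apply_eq_sum_col χ (one_mem (P : Subgroup G)) h
    rw [one_mul] at h1
    rw [h1, Finset.sum_eq_single θ (fun φ _ hφ => by rw [hone, if_neg hφ, zero_mul]) (by simp),
      hone, if_pos rfl]
  obtain ⟨l, hl⟩ := H12.exists_monoidHom_of_apply_one_eq_one (H12.isCharacter_irr θ) hθ1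
  have hcent : H = Subgroup.center G := by
    have hle : H ≤ Subgroup.center G := fun y hy => by
      refine mem_center_of_norm χ hfaith ?_
      rw [show y = ((⟨y, hy⟩ : H) : G) from rfl, hscal, norm_mul, hdeg, Complex.norm_natCast,
        ← congrFun hl, H12.norm_eq_one_of_pow_eq_one (n := orderOf (⟨y, hy⟩ : H))
        (orderOf_pos _).ne' (by rw [← Units.val_pow_eq_pow_val, ← map_pow, pow_orderOf_eq_one,
          map_one, Units.val_one]), mul_one]
    refine le_antisymm hle fun z hz => ?_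
    obtain ⟨x, hx, y, hy, rfl⟩ :=
      D.exists_mul (fun w _ => (Subgroup.mem_center_iff.1 hz w : w * z = z * w))
    rcases eq_or_ne x 1 with hx1 | hx1
    · rw [hx1, one_mul]; exact hy
    refine absurd ⟨fun w hw g => ?_⟩ hnn
    have hxc : x ∈ Subgroup.center G := by
      have := mul_mem hz (inv_mem (hle hy))
      rwa [mul_inv_cancel_right] at this
    have hw' : w ∈ Subgroup.center G := by
      have h1 : w ∈ Subgroup.zpowers x := by rw [H20.PrimeSylow.zpowers_eq D.hP hx hx1]; exact hw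
      exact (Subgroup.zpowers_le.2 hxc) h1
    rw [Subgroup.mem_center_iff.1 hw' g, mul_inv_cancel_right]
    exact hw
  exact ⟨θ, ψ, he, hpe, hcent, hperf, hfdef ▸ hfe, hθ, hdeg, hfaith, hψ,
    fun x hx => (hval x hx).trans (hcolval x hx)⟩

end H15.HalfDeg
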