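import Cfsg.Agent.H15.HalfDeg.Periods
import Cfsg.Agent.H15.HalfDeg.ClassSum

/-!
Half degree (helper15): the principal block and the block of the faithful character, determined by
degree budgets in the products of two exceptional characters.
-/

set_option autoImplicit false
set_option linter.style.haveILetI false
set_option linter.unusedSectionVars false

open Cfsg
open scoped ComplexConjugate

namespace H15.HalfDeg

open H85.D1

universe u

/-- Splitting off constituents of a character. -/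
theorem exists_split {A : Type*} [Group A] [Fintype A] {F : A → ℂ} (hF : IsCharacter A F)
    (s : Finset (IrrCharacter A))
    (hs : ∀ i ∈ s, classInner F (i : A → ℂ) ≠ 0) :
    ∃ m : IrrCharacter A → ℕ, (∀ i ∈ s, 1 ≤ m i) ∧
      F = ∑ i : IrrCharacter A, (m i : ℂ) • (i : A → ℂ) ∧
      ∀ g, F g = ∑ i ∈ s, (i : A → ℂ) g +
        ∑ i : IrrCharacter A, (((m i - if i ∈ s then 1 else 0 : ℕ)) : ℂ) * (i : A → ℂ) g := by
  classical
  obtain ⟨m, hm⟩ := H12.IsCharacter.exists_mult hF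
  have hm1 : ∀ i ∈ s, 1 ≤ m i := fun i hi => by
    refine Nat.one_le_iff_ne_zero.2 fun h0 => hs i hi ?_
    rw [hm, H12.classInner_sum_smul_irr, h0, Nat.cast_zero]
  refine ⟨m, hm1, hm, fun g => ?_⟩
  have hg : F g = ∑ i : IrrCharacter A, (m i : ℂ) * (i : A → ℂ) g := by rw [hm]; simp
  rw [hg, ← Finset.univ_inter s, ← Finset.sum_ite_mem, ← Finset.sum_add_distrib]
  refine Finset.sum_congr rfl fun i _ => ?_
  simp only [Finset.univ_inter]
  split_ifs with hi
  · rw [Nat.cast_sub (hm1 i hi)]; push_cast; ring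
  · simp

theorem sum_degree_le {A : Type*} [Group A] [Fintype A] {F : A → ℂ} (hF : IsCharacter A F)
    (s : Finset (IrrCharacter A))
    (hs : ∀ i ∈ s, classInner F (i : A → ℂ) ≠ 0) {N : ℕ} (hN : F 1 = (N : ℂ)) :
    ∑ i ∈ s, H12.degree (i : A → ℂ) ≤ N ∧
      (∑ i ∈ s, H12.degree (i : A → ℂ) = N → ∀ g, F g = ∑ i ∈ s, (i : A → ℂ) g) := by
  classical
  obtain ⟨m, -, -, hg⟩ := exists_split hF s hs
  have h1 := hg 1
  simp only [hN, H12.irr_apply_one] at h1
  have h2 : N = ∑ i ∈ s, H12.degree (i : A → ℂ) +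
      ∑ i : IrrCharacter A, (m i - if i ∈ s then 1 else 0) * H12.degree (i : A → ℂ) := by
    exact_mod_cast h1
  refine ⟨by omega, fun he g => ?_⟩
  rw [hg g]
  have h3 := Finset.sum_eq_zero_iff.1 (by omega :
    ∑ i : IrrCharacter A, (m i - if i ∈ s then 1 else 0) * H12.degree (i : A → ℂ) = 0)
  rw [Finset.sum_eq_zero (s := (Finset.univ : Finset (IrrCharacter A))) fun i hi => ?_, add_zero]
  have h4 : (m i - if i ∈ s then 1 else 0) = 0 :=
    (Nat.mul_eq_zero.1 (h3 i hi)).resolve_right (H12.irr_degree_pos i).ne'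
  rw [h4, Nat.cast_zero, zero_mul]

theorem card_le_classInner {A : Type*} [Group A] [Fintype A] {F : A → ℂ} (hF : IsCharacter A F)
    (s : Finset (IrrCharacter A))
    (hs : ∀ i ∈ s, classInner F (i : A → ℂ) ≠ 0) :
    ∃ Q : ℕ, classInner F F = Q ∧
      (s.card ≤ Q ∧ ((∃ g, F g ≠ ∑ i ∈ s, (i : A → ℂ) g) → s.card + 1 ≤ Q)) := by
  classical
  obtain ⟨m, hm1, hm, hg⟩ := exists_split hF s hs
  refine ⟨∑ i : IrrCharacter A, m i * m i, ?_, ?_⟩
  · rw [hm, H12.classInner_sum_smul_sum_smul]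
    push_cast
    exact Finset.sum_congr rfl fun i _ => by rw [map_natCast]
  have hle : ∀ i, (if i ∈ s then 1 else 0) ≤ m i * m i := fun i => by
    split_ifs with hi
    · exact Nat.mul_pos (hm1 i hi) (hm1 i hi)
    · exact Nat.zero_le _
  have hs' : ∑ i : IrrCharacter A, (if i ∈ s then 1 else 0) = s.card := by simp
  refine ⟨hs' ▸ Finset.sum_le_sum fun i _ => hle i, fun ⟨g, hne⟩ => ?_⟩
  obtain ⟨i₀, hi₀⟩ : ∃ i, (m i - if i ∈ s then 1 else 0) ≠ 0 := by
    by_contra! h0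
    refine hne ?_
    rw [hg g, Finset.sum_eq_zero (s := (Finset.univ : Finset (IrrCharacter A))) fun i _ => by
      rw [h0 i, Nat.cast_zero, zero_mul], add_zero]
  have h5 : ∑ i : IrrCharacter A, (if i ∈ s then 1 else 0) < ∑ i : IrrCharacter A, m i * m i := by
    refine Finset.sum_lt_sum (fun i _ => hle i) ⟨i₀, Finset.mem_univ _, ?_⟩
    have h6 := Nat.le_mul_self (m i₀)
    split_ifs at hi₀ ⊢ <;> omega
  rw [hs'] at h5
  omega

theorem isCharacter_mul_conj {A : Type*} [Group A] [Finite A] (χ₁ χ₂ : IrrCharacter A) :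
    IsCharacter A fun g => (χ₁ : A → ℂ) g * conj ((χ₂ : A → ℂ) g) :=
  H12.IsCharacter.mul (H12.isCharacter_irr χ₁) (H12.IsCharacter.star (H12.isCharacter_irr χ₂))

variable {G : Type u} [Group G] [Fintype G] {p : ℕ} [hp : Fact p.Prime]
  {P : Sylow p G} {u a : G} {H : Subgroup G} [Fintype H] {D : Setting P u a H}
  [Fintype (D.aut (H12.oneIrr H))] {e : ℕ} {χ : IrrCharacter G} {θ : IrrCharacter H}
  {ψ : (P : Subgroup G) →* ℂˣ}

namespace Half

variable (h : Half D e χ θ ψ) {M : Ideal AlgInt} [hMp : M.IsPrime] (hM : IsPModular p M)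
include h hM

/-- Degrees of the characters with constant column. -/
theorem degree_colX {φ : IrrCharacter H} {i : IrrCharacter G} (hi : i ∈ D.supp φ) {ε : ℤ}
    (hcol : ∀ x ∈ (P : Subgroup G), x ≠ 1 → D.col φ i x = (ε : ℂ)) :
    (p : ℤ) ∣ (H12.degree (i : G → ℂ) : ℤ) - ε := by
  classical
  have hd : H12.degree (φ : H → ℂ) = 1 := by
    have := H12.irr_apply_one φ
    rw [lin_one D h.central_le φ] at this
    exact_mod_cast this.symm
  have hmod := D.degree_modEq hM hi (c := ε) fun x hx hx1 => by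
    rw [hcol x hx hx1, sub_self]; exact H20.memIdeal_zero
  rw [orbit_eq D h.central_le φ, hd] at hmod
  simp only [Nat.card_eq_fintype_card, Fintype.card_unique, mul_one, Nat.cast_one] at hmod
  exact Int.ModEq.dvd hmod.symm

theorem apply_singular {φ : IrrCharacter H} (hφ : φ = H12.oneIrr H) {i : IrrCharacter G}
    (hi : i ∈ D.supp φ) {ε : ℤ}
    (hcol : ∀ x ∈ (P : Subgroup G), x ≠ 1 → D.col φ i x = (ε : ℂ)) {g : G} (hg : p ∣ orderOf g) :
    (i : G → ℂ) g = (ε : ℂ) :=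
  D.apply_singular_eq (H12.irr_isClassFunction i) (fun x hx hx1 k => by
    rw [apply_mul D h.central_le hM hi hx hx1 k, hcol x hx hx1, hφ, H12.oneIrr_apply, mul_one]) hg

/-- The block of `χ`: `χ` is exceptional with sign `1`, with a partner. -/
theorem exists_partner [Fintype (P : Subgroup G)] [Fintype (D.aut θ)]
    (S : Shape p (D.aut θ) (fun (χ : IrrCharacter G) (x : (P : Subgroup G)) => D.col θ χ x)
      (fun (χ : IrrCharacter G) (g : {g : G // ¬ p ∣ orderOf g}) => (χ : G → ℂ) g)) :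
    S.ε = 1 ∧ ∃ χ' : IrrCharacter G, χ ≠ χ' ∧ S.Y = {χ, χ'} ∧
      H12.degree (χ' : G → ℂ) = e ∧
      (∀ g : G, ¬ p ∣ orderOf g → (χ : G → ℂ) g = (χ' : G → ℂ) g) ∧
      ∀ x : (P : Subgroup G), x ≠ 1 → (χ' : G → ℂ) x = -1 - (χ : G → ℂ) x := by
  classical
  obtain ⟨η, η', hne, hY, hv, hv'⟩ := h.exists_pair hM θ S
  have hχY : χ ∈ S.Y := by
    rcases (D.union_eq_supp S).symm.subset h.mem_supp with h1 | h1
    · exfalso
      obtain ⟨k, hk⟩ := h.degree_colX hM h.mem_supp (ε := S.εX χ) fun x hx hx1 =>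
        S.colX χ h1 ⟨x, hx⟩ fun h' => hx1 (congrArg Subtype.val h')
      rw [h.degree_eq] at hk
      have h2 := Int.eq_zero_of_abs_lt_dvd ⟨k, hk⟩ (by
        have := h.hpe; have := h.two_le
        rcases S.εX_eq χ h1 with h3 | h3 <;> rw [h3, abs_lt] <;> omega)
      have := h.two_le
      rcases S.εX_eq χ h1 with h3 | h3 <;> rw [h3] at h2 <;> omega
    · exact h1
  have hu : (⟨u, D.u_mem⟩ : (P : Subgroup G)) ≠ 1 :=
    fun h' => D.u_ne_one (congrArg Subtype.val h')
  have hnotcomp : ∀ ε : ℤ, (ε = 1 ∨ ε = -1) →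
      ¬ ∀ x : (P : Subgroup G), x ≠ 1 → (χ : G → ℂ) x = (ε : ℂ) * (-1 - (χ : G → ℂ) x) := by
    intro ε hε hall
    rcases hε with rfl | rfl
    · have hhalf : ∀ x : (P : Subgroup G), x ≠ 1 → (χ : G → ℂ) x = -(1 / 2) := fun x hx => by
        have h1 := hall x hx
        push_cast at h1
        linear_combination h1 / 2
      have h1 := h.sum_erase_mul_conj
      rw [Finset.sum_congr rfl fun x hx => by rw [hhalf x (Finset.ne_of_mem_erase hx)],
        Finset.sum_const, Finset.card_erase_of_mem (Finset.mem_univ _), Finset.card_univ,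
        ← Nat.card_eq_fintype_card, D.hP, ← h.hpe, Nat.add_sub_cancel, nsmul_eq_mul] at h1
      simp [map_ofNat] at h1
      have h2 : (e : ℂ) * (2 * (e : ℂ) + 1) = 0 := by linear_combination -2 * h1
      have h3 : e * (2 * e + 1) = 0 := by exact_mod_cast h2
      have := h.two_le
      rcases Nat.mul_eq_zero.1 h3 with h4 | h4 <;> omega
    · have h1 := hall _ hu
      push_cast at h1
      exact one_ne_zero (by linear_combination -h1 : (1 : ℂ) = 0)
  have hχη : χ = η := by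
    rw [hY] at hχY
    rcases hχY with h1 | h1
    · exact h1
    · rw [Set.mem_singleton_iff] at h1
      subst h1
      exact absurd (fun x hx => hv' x hx) (hnotcomp S.ε S.ε_eq)
  subst hχη
  have hε : S.ε = 1 := by
    rcases S.ε_eq with h1 | h1
    · exact h1
    exfalso
    have h2 := h.sum_erase
    rw [Finset.sum_eq_zero fun x hx => by
      have := hv x (Finset.ne_of_mem_erase hx)
      rw [h1] at this
      push_cast at this
      linear_combination this / 2] at h2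
    have := h.two_le
    have h3 : (e : ℂ) = 0 := by linear_combination h2
    exact (Nat.cast_ne_zero.2 (by omega : e ≠ 0)) h3
  have hreg : ∀ g : G, ¬ p ∣ orderOf g → (χ : G → ℂ) g = (η' : G → ℂ) g := fun g hg =>
    congrFun (S.regY χ (by rw [hY]; exact Or.inl rfl) η' (by rw [hY]; exact Or.inr rfl)) ⟨g, hg⟩
  refine ⟨hε, η', hne, hY, ?_, hreg, fun x hx => by rw [hv' x hx, hε, Int.cast_one, one_mul]⟩
  have h1 := hreg 1 (by simp [hp.out.ne_one])
  rw [H12.irr_apply_one, H12.irr_apply_one, h.degree_eq] at h1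
  exact_mod_cast h1.symm

/-- The principal block. -/
theorem exists_principal [Fintype (P : Subgroup G)] :
    ∃ (η η' : IrrCharacter G) (Xp Xm : Finset (IrrCharacter G)),
      η ≠ η' ∧ η ∈ D.supp (H12.oneIrr H) ∧
      (∀ g : G, ¬ p ∣ orderOf g → (η : G → ℂ) g = (η' : G → ℂ) g) ∧
      H12.degree (η' : G → ℂ) = H12.degree (η : G → ℂ) ∧
      (∀ x : (P : Subgroup G), x ≠ 1 → (Odd e → (η : G → ℂ) x = (χ : G → ℂ) x ∧
          (η' : G → ℂ) x = -1 - (χ : G → ℂ) x) ∧
        (Even e → (η : G → ℂ) x = -(χ : G → ℂ) x ∧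
          (η' : G → ℂ) x = -(-1 - (χ : G → ℂ) x))) ∧
      (Odd e → H12.degree (η : G → ℂ) = e) ∧ (Even e → H12.degree (η : G → ℂ) = e + 1) ∧
      2 * Xp.card + 2 = e + e % 2 ∧
      (∀ x x' : (P : Subgroup G), x ≠ 1 → x' ≠ 1 → ∀ y : G,
        blockSum D (H12.oneIrr H) x x' y = 1 +
          conj (∑ i ∈ Xp, (i : G → ℂ) y) / (2 * (e : ℂ) + 2) +
          conj (∑ i ∈ Xm, (i : G → ℂ) y) / (2 * (e : ℂ)) +
          ((η : G → ℂ) x * (η : G → ℂ) x' * conj ((η : G → ℂ) y) +
           (η' : G → ℂ) x * (η' : G → ℂ) x' * conj ((η' : G → ℂ) y)) / (η : G → ℂ) 1) ∧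
      (∀ g : G, ¬ p ∣ orderOf g → (if Odd e then 1 else -1 : ℂ) * (η : G → ℂ) g =
        1 + ∑ i ∈ Xp, (i : G → ℂ) g - ∑ i ∈ Xm, (i : G → ℂ) g) ∧
      ∀ χ₁ χ₂ : IrrCharacter G, χ₁ ≠ χ₂ → H12.degree (χ₁ : G → ℂ) = e →
        (∀ g : G, ¬ p ∣ orderOf g → (χ₁ : G → ℂ) g = (χ₂ : G → ℂ) g) →
        (∀ g : G, ¬ p ∣ orderOf g → (χ₁ : G → ℂ) g * conj ((χ₁ : G → ℂ) g) =
          if Odd e then 1 + ∑ i ∈ Xp, (i : G → ℂ) g else ∑ i ∈ Xm, (i : G → ℂ) g) ∧
        ∃ Q : ℕ, classInner (fun g => (χ₁ : G → ℂ) g * conj ((χ₁ : G → ℂ) g))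
          (fun g => (χ₁ : G → ℂ) g * conj ((χ₁ : G → ℂ) g)) = Q ∧ e / 2 + 1 ≤ Q := by
  classical
  haveI : Fintype (D.aut θ) := Fintype.ofFinite _
  obtain ⟨Sθ⟩ := D.exists_shape hM θ
  obtain ⟨-, χ', hχne, -, hdeg', hregχ, -⟩ := h.exists_partner hM Sθ
  obtain ⟨S⟩ := D.exists_shape hM (H12.oneIrr H)
  have hH := h.central_le
  have hsupp : ∀ i ∈ S.X ∪ S.Y, i ∈ D.supp (H12.oneIrr H) := fun i hi => (D.union_eq_supp S).subset hi
  have hcolX : ∀ i ∈ S.X, ∀ x ∈ (P : Subgroup G), x ≠ 1 → D.col (H12.oneIrr H) i x = (S.εX i : ℂ) :=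
    fun i hi x hx hx1 => S.colX i hi ⟨x, hx⟩ fun h' => hx1 (congrArg Subtype.val h')
  have hsing : ∀ i ∈ S.X, ∀ g : G, p ∣ orderOf g → (i : G → ℂ) g = (S.εX i : ℂ) :=
    fun i hi g hg => h.apply_singular hM rfl (hsupp i (Or.inl hi)) (hcolX i hi) hg
  have hp5 := h.hpe
  have he2 := h.two_le
  set one := H12.oneIrr G with hone
  have hu : (⟨u, D.u_mem⟩ : (P : Subgroup G)) ≠ 1 :=
    fun h' => D.u_ne_one (congrArg Subtype.val h')
  have hcol1 : ∀ x : (P : Subgroup G), D.col (H12.oneIrr H) one x = 1 := fun x => by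
    simp [Setting.col, hone, H12.oneIrr_apply]
  obtain ⟨η, η', hne, hY, hv, hv'⟩ := h.exists_pair hM (H12.oneIrr H) S
  have honeX : one ∈ S.X := by
    rcases (S.supp one).2 ⟨_, hu, by rw [hcol1]; exact one_ne_zero⟩ with h1 | h1
    · exact h1
    · exfalso
      have hsum : ∀ i ∈ S.Y, ∑ x ∈ Finset.univ.erase (1 : (P : Subgroup G)), (i : G → ℂ) x =
          -(S.ε : ℂ) * e := by
        intro i hi
        rw [hY] at hi
        have hc : (Finset.univ.erase (1 : (P : Subgroup G))).card = 2 * e := by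
          rw [Finset.card_erase_of_mem (Finset.mem_univ _), Finset.card_univ,
            ← Nat.card_eq_fintype_card, D.hP, ← h.hpe, Nat.add_sub_cancel]
        rcases hi with rfl | hi
        · rw [Finset.sum_congr rfl fun x hx => hv x (Finset.ne_of_mem_erase hx), ← Finset.mul_sum,
            h.sum_erase]
          ring
        · rw [Set.mem_singleton_iff.1 hi, Finset.sum_congr rfl fun x hx => hv' x
            (Finset.ne_of_mem_erase hx), ← Finset.mul_sum, Finset.sum_sub_distrib, h.sum_erase,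
            Finset.sum_const, hc, nsmul_eq_mul]
          push_cast
          ring
      have h2 := hsum one h1
      simp only [hone, H12.oneIrr_apply, Finset.sum_const, Finset.card_erase_of_mem (Finset.mem_univ _),
        Finset.card_univ, nsmul_eq_mul, mul_one, ← Nat.card_eq_fintype_card, D.hP] at h2
      have h3 : ((p - 1 : ℕ) : ℤ) = -S.ε * e := by exact_mod_cast h2
      rcases S.ε_eq with h4 | h4 <;> rw [h4] at h3 <;> omega
  have hone1 : S.εX one = 1 := by
    have h1 := S.colX one honeX _ hu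
    exact_mod_cast ((hcol1 ⟨u, D.u_mem⟩).symm.trans h1).symm
  set X₁ := (S.X.toFinite.toFinset).erase one with hX₁
  set Xp := X₁.filter fun i => S.εX i = 1 with hXp
  set Xm := X₁.filter fun i => ¬ S.εX i = 1 with hXm
  have hmemX : ∀ i ∈ X₁, i ∈ S.X ∧ i ≠ one := fun i hi =>
    ⟨(Set.Finite.mem_toFinset _).1 (Finset.mem_of_mem_erase hi), Finset.ne_of_mem_erase hi⟩
  have hmεm : ∀ i ∈ Xm, S.εX i = -1 := fun i hi => by
    obtain ⟨hi1, hi2⟩ := Finset.mem_filter.1 hi
    rcases S.εX_eq i (hmemX i hi1).1 with h1 | h1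
    · exact absurd h1 hi2
    · exact h1
  have hcard : Xp.card + Xm.card + 1 = e := by
    have h1 : X₁.card + 1 = (S.X.toFinite.toFinset).card :=
      Finset.card_erase_add_one ((Set.Finite.mem_toFinset _).2 honeX)
    rw [hXp, hXm, Finset.card_filter_add_card_filter_not, h1, ← Set.ncard_eq_toFinset_card,
      ← Nat.card_coe_set_eq, S.card_X, h.card_aut]
  have hpZ : (p : ℤ) = 2 * e + 1 := by exact_mod_cast h.hpe.symm
  have hdegp : ∀ i ∈ Xp, H12.degree (i : G → ℂ) = 2 * e + 2 ∨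
      4 * e + 3 ≤ H12.degree (i : G → ℂ) := by
    intro i hi
    obtain ⟨hi1, hi2⟩ := Finset.mem_filter.1 hi
    obtain ⟨k, hk⟩ := h.degree_colX hM (hsupp i (Or.inl (hmemX i hi1).1))
      (hcolX i (hmemX i hi1).1)
    rw [hi2] at hk
    have hpos := H12.irr_degree_pos i
    have hne1 : H12.degree (i : G → ℂ) ≠ 1 := by
      intro h5
      obtain ⟨l, hl⟩ := H12.exists_monoidHom_of_apply_one_eq_one (H12.isCharacter_irr i)
        (by rw [H12.irr_apply_one, h5, Nat.cast_one])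
      refine (hmemX i hi1).2 (Subtype.ext (funext fun y => ?_))
      rw [← congrFun hl y, h.perfect l, hone, H12.oneIrr_apply]
      simp
    rw [hpZ] at hk
    rcases le_or_gt k 0 with hk0 | hk0
    · have : (2 * (e : ℤ) + 1) * k ≤ 0 := mul_nonpos_of_nonneg_of_nonpos (by positivity) hk0
      omega
    rcases eq_or_lt_of_le (by omega : (1 : ℤ) ≤ k) with hk1 | hk1
    · rw [← hk1] at hk; omega
    · have : (2 * (e : ℤ) + 1) * 2 ≤ (2 * (e : ℤ) + 1) * k :=
        mul_le_mul_of_nonneg_left (by omega) (by positivity)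
      omega
  have hdegm : ∀ i ∈ Xm, H12.degree (i : G → ℂ) = 2 * e ∨
      4 * e + 1 ≤ H12.degree (i : G → ℂ) := by
    intro i hi
    have hiX := (hmemX i (Finset.mem_filter.1 hi).1).1
    obtain ⟨k, hk⟩ := h.degree_colX hM (hsupp i (Or.inl hiX)) (hcolX i hiX)
    rw [hmεm i hi, hpZ] at hk
    have hpos := H12.irr_degree_pos i
    rcases le_or_gt k 0 with hk0 | hk0
    · have : (2 * (e : ℤ) + 1) * k ≤ 0 := mul_nonpos_of_nonneg_of_nonpos (by positivity) hk0
      omega
    rcases eq_or_lt_of_le (by omega : (1 : ℤ) ≤ k) with hk1 | hk1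
    · rw [← hk1] at hk; omega
    · have : (2 * (e : ℤ) + 1) * 2 ≤ (2 * (e : ℤ) + 1) * k :=
        mul_le_mul_of_nonneg_left (by omega) (by positivity)
      omega
  -- the budget of a pair
  have hone_notmem : one ∉ Xp := fun h1 => (hmemX one (Finset.mem_filter.1 h1).1).2 rfl
  have hbudget : ∀ χ₁ χ₂ : IrrCharacter G, χ₁ ≠ χ₂ → H12.degree (χ₁ : G → ℂ) = e →
      (∀ g : G, ¬ p ∣ orderOf g → (χ₁ : G → ℂ) g = (χ₂ : G → ℂ) g) →
      (∀ i ∈ insert one Xp,
        classInner (fun g => (χ₁ : G → ℂ) g * conj ((χ₁ : G → ℂ) g)) (i : G → ℂ) ≠ 0) ∧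
      ∀ i ∈ Xm,
        classInner (fun g => (χ₁ : G → ℂ) g * conj ((χ₂ : G → ℂ) g)) (i : G → ℂ) ≠ 0 := by
    intro χ₁ χ₂ hne hd hreg
    have hkey : ∀ i ∈ S.X, ∃ j k : ℕ,
        classInner (fun g => (χ₁ : G → ℂ) g * conj ((χ₁ : G → ℂ) g)) (i : G → ℂ) = j ∧
        classInner (fun g => (χ₁ : G → ℂ) g * conj ((χ₂ : G → ℂ) g)) (i : G → ℂ) = k ∧
        (k : ℤ) - j = - S.εX i := by
      intro i hi
      obtain ⟨j, hj⟩ := H12.IsCharacter.classInner_nat (isCharacter_mul_conj χ₁ χ₁) (H12.isCharacter_irr i)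
      obtain ⟨k, hk⟩ := H12.IsCharacter.classInner_nat (isCharacter_mul_conj χ₁ χ₂) (H12.isCharacter_irr i)
      refine ⟨j, k, hj, hk, ?_⟩
      have h1 : ((k : ℤ) : ℂ) - ((j : ℤ) : ℂ) = ((- S.εX i : ℤ) : ℂ) := by
        have := D.classInner_sub_classInner hne hreg (hsing i hi)
        rw [map_intCast] at this
        push_cast
        rw [← hj, ← hk]
        exact this
      exact_mod_cast h1
    refine ⟨fun i hi => ?_, fun i hi => ?_⟩
    · have hiX : i ∈ S.X ∧ S.εX i = 1 := by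
        rcases Finset.mem_insert.1 hi with rfl | h1
        · exact ⟨honeX, hone1⟩
        · exact ⟨(hmemX i (Finset.mem_filter.1 h1).1).1, (Finset.mem_filter.1 h1).2⟩
      obtain ⟨j, k, hj, -, hjk⟩ := hkey i hiX.1
      rw [hj, Nat.cast_ne_zero]
      rw [hiX.2] at hjk
      omega
    · obtain ⟨j, k, -, hk, hjk⟩ := hkey i (hmemX i (Finset.mem_filter.1 hi).1).1
      rw [hk, Nat.cast_ne_zero]
      rw [hmεm i hi] at hjk
      omega
  have hF1 : ∀ χ₁ χ₂ : IrrCharacter G, H12.degree (χ₁ : G → ℂ) = e →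
      H12.degree (χ₂ : G → ℂ) = e →
      (χ₁ : G → ℂ) 1 * conj ((χ₂ : G → ℂ) 1) = ((e * e : ℕ) : ℂ) := fun χ₁ χ₂ h1 h2 => by
    rw [H12.irr_apply_one, H12.irr_apply_one, h1, h2, map_natCast]; push_cast; ring
  obtain ⟨hbp, hbm⟩ := hbudget χ χ' hχne h.degree_eq hregχ
  have hup := (sum_degree_le (isCharacter_mul_conj χ χ) _ hbp (hF1 χ χ h.degree_eq h.degree_eq)).1
  have hum := (sum_degree_le (isCharacter_mul_conj χ χ') _ hbm (hF1 χ χ' h.degree_eq hdeg')).1
  have hone_deg : H12.degree (one : G → ℂ) = 1 := by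
    have := H12.irr_apply_one one
    rw [hone, H12.oneIrr_apply] at this
    exact_mod_cast this.symm
  rw [Finset.sum_insert hone_notmem, hone_deg] at hup
  have hlp : Xp.card * (2 * e + 2) ≤ ∑ i ∈ Xp, H12.degree (i : G → ℂ) := by
    rw [← smul_eq_mul]
    exact Finset.card_nsmul_le_sum _ _ _ fun i hi => by
      rcases hdegp i hi with h1 | h1 <;> omega
  have hlm : Xm.card * (2 * e) ≤ ∑ i ∈ Xm, H12.degree (i : G → ℂ) := by
    rw [← smul_eq_mul]
    exact Finset.card_nsmul_le_sum _ _ _ fun i hi => by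
      rcases hdegm i hi with h1 | h1 <;> omega
  have ha : 2 * Xp.card + 1 ≤ e := by
    by_contra hc
    have h1 : e * (e + 1) ≤ 2 * Xp.card * (e + 1) := Nat.mul_le_mul_right _ (by omega)
    nlinarith
  have hb : 2 * Xm.card ≤ e := by
    by_contra hc
    have h1 : (e + 1) * e ≤ 2 * Xm.card * e := Nat.mul_le_mul_right _ (by omega)
    nlinarith
  obtain ⟨m, hm⟩ := Nat.even_or_odd' e
  have hab : (Xp.card + 1 = m ∧ Xm.card = m ∧ e = 2 * m) ∨
      (Xp.card = m ∧ Xm.card = m ∧ e = 2 * m + 1) := by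
    rcases hm with hm | hm <;> omega
  have hexp : ∀ i ∈ Xp, H12.degree (i : G → ℂ) = 2 * e + 2 := by
    intro i hi
    refine (hdegp i hi).resolve_right fun h1 => ?_
    have h2 : (Xp.erase i).card * (2 * e + 2) ≤ ∑ j ∈ Xp.erase i, H12.degree (j : G → ℂ) := by
      rw [← smul_eq_mul]
      exact Finset.card_nsmul_le_sum _ _ _ fun j hj => by
        rcases hdegp j (Finset.mem_of_mem_erase hj) with h3 | h3 <;> omega
    rw [← Finset.add_sum_erase _ _ hi] at hup
    have h4 := Finset.card_erase_add_one hi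
    rcases hab with ⟨h5, -, h6⟩ | ⟨h5, -, h6⟩ <;> nlinarith
  have hexm : ∀ i ∈ Xm, H12.degree (i : G → ℂ) = 2 * e := by
    intro i hi
    refine (hdegm i hi).resolve_right fun h1 => ?_
    have h2 : (Xm.erase i).card * (2 * e) ≤ ∑ j ∈ Xm.erase i, H12.degree (j : G → ℂ) := by
      rw [← smul_eq_mul]
      exact Finset.card_nsmul_le_sum _ _ _ fun j hj => by
        rcases hdegm j (Finset.mem_of_mem_erase hj) with h3 | h3 <;> omega
    rw [← Finset.add_sum_erase _ _ hi] at hum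
    have h4 := Finset.card_erase_add_one hi
    rcases hab with ⟨-, h5, h6⟩ | ⟨-, h5, h6⟩ <;> nlinarith
  have hsp : ∑ i ∈ Xp, H12.degree (i : G → ℂ) = Xp.card * (2 * e + 2) := by
    rw [Finset.sum_congr rfl hexp, Finset.sum_const, smul_eq_mul]
  have hsm : ∑ i ∈ Xm, H12.degree (i : G → ℂ) = Xm.card * (2 * e) := by
    rw [Finset.sum_congr rfl hexm, Finset.sum_const, smul_eq_mul]
  -- the relation
  have hηY : η ∈ S.Y := by rw [hY]; exact Or.inl rfl
  have hη'Y : η' ∈ S.Y := by rw [hY]; exact Or.inr rfl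
  have hregη : ∀ g : G, ¬ p ∣ orderOf g → (η : G → ℂ) g = (η' : G → ℂ) g := fun g hg =>
    congrFun (S.regY η hηY η' hη'Y) ⟨g, hg⟩
  have hrel : ∀ g : G, ¬ p ∣ orderOf g → (S.ε : ℂ) * (η : G → ℂ) g =
      1 + ∑ i ∈ Xp, (i : G → ℂ) g - ∑ i ∈ Xm, (i : G → ℂ) g := by
    intro g hg
    have h1 := S.rel η hηY ⟨g, hg⟩
    rw [finsum_mem_eq_finite_toFinset_sum _ S.X.toFinite] at h1
    rw [h1, ← Finset.add_sum_erase _ _ ((Set.Finite.mem_toFinset S.X.toFinite).2 honeX), hone1,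
      ← hX₁, ← Finset.sum_filter_add_sum_filter_not X₁ (fun i => S.εX i = 1), ← hXp, ← hXm,
      Finset.sum_congr rfl (s₁ := Xp) (g := fun i : IrrCharacter G => (i : G → ℂ) g) fun i hi => by
        rw [(Finset.mem_filter.1 hi).2, Int.cast_one, one_mul],
      Finset.sum_congr rfl (s₁ := Xm) (g := fun i : IrrCharacter G => -(i : G → ℂ) g) fun i hi => by
        rw [hmεm i hi]; simp,
      Finset.sum_neg_distrib, hone, H12.oneIrr_apply, Int.cast_one, one_mul]
    ring
  have hrel1 : S.ε * (H12.degree (η : G → ℂ) : ℤ) =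
      1 + (Xp.card * (2 * e + 2) : ℕ) - (Xm.card * (2 * e) : ℕ) := by
    have h1 := hrel 1 (by simp [hp.out.ne_one])
    simp only [H12.irr_apply_one] at h1
    rw [← Nat.cast_sum, ← Nat.cast_sum, hsp, hsm] at h1
    exact_mod_cast h1
  have hεD : (Odd e → S.ε = 1 ∧ H12.degree (η : G → ℂ) = e) ∧
      (Even e → S.ε = -1 ∧ H12.degree (η : G → ℂ) = e + 1) := by
    have hpos := H12.irr_degree_pos η
    rcases hab with ⟨h5, h5', h6⟩ | ⟨h5, h5', h6⟩
    · refine ⟨fun ho => absurd (h6 ▸ ho) (by simp), fun _ => ?_⟩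
      have h7 : ((Xp.card * (2 * e + 2) : ℕ) : ℤ) - (Xm.card * (2 * e) : ℕ) = -(e : ℤ) - 2 := by
        have h8 : (Xp.card : ℤ) + 1 = m := by exact_mod_cast h5
        have h9 : (Xm.card : ℤ) = m := by exact_mod_cast h5'
        have h10 : (e : ℤ) = 2 * m := by exact_mod_cast h6
        push_cast
        rw [show (Xp.card : ℤ) = m - 1 by omega, h9, h10]
        ring
      have hrel2 : S.ε * (H12.degree (η : G → ℂ) : ℤ) = -(e : ℤ) - 1 := by linarith
      rcases S.ε_eq with h8 | h8 <;> rw [h8] at hrel2 <;> omega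
    · refine ⟨fun _ => ?_, fun he => absurd (h6 ▸ he) (by simp [Nat.even_add_one])⟩
      have h7 : ((Xp.card * (2 * e + 2) : ℕ) : ℤ) - (Xm.card * (2 * e) : ℕ) = (e : ℤ) - 1 := by
        have h9 : (Xp.card : ℤ) = m := by exact_mod_cast h5
        have h9' : (Xm.card : ℤ) = m := by exact_mod_cast h5'
        have h10 : (e : ℤ) = 2 * m + 1 := by exact_mod_cast h6
        push_cast
        rw [h9, h9', h10]
        ring
      have hrel2 : S.ε * (H12.degree (η : G → ℂ) : ℤ) = (e : ℤ) := by linarith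
      rcases S.ε_eq with h8 | h8 <;> rw [h8] at hrel2 <;> omega
  have hdη : H12.degree (η' : G → ℂ) = H12.degree (η : G → ℂ) := by
    have h1 := hregη 1 (by simp [hp.out.ne_one])
    rw [H12.irr_apply_one, H12.irr_apply_one] at h1
    exact_mod_cast h1.symm
  refine ⟨η, η', Xp, Xm, hne, hsupp η (Or.inr hηY), hregη, hdη,
    fun x hx => ⟨fun ho => ?_, fun he => ?_⟩, fun ho => (hεD.1 ho).2, fun he => (hεD.2 he).2,
    by rcases hab with h1 | h1 <;> omega, ?_, fun g hg => ?_, ?_⟩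
  · rw [hv x hx, hv' x hx, (hεD.1 ho).1]; simp
  · rw [hv x hx, hv' x hx, (hεD.2 he).1]; simp
  · intro x x' hx hx' y
    have hxx : ∀ i ∈ S.X, (i : G → ℂ) x = (S.εX i : ℂ) ∧ (i : G → ℂ) x' = (S.εX i : ℂ) := by
      intro i hi
      exact ⟨by rw [apply_eq_col D hH hM (hsupp i (Or.inl hi)) x.2 fun h' => hx (Subtype.ext h'),
          S.colX i hi x hx],
        by rw [apply_eq_col D hH hM (hsupp i (Or.inl hi)) x'.2 fun h' => hx' (Subtype.ext h'),
          S.colX i hi x' hx']⟩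
    have hset : (D.supp (H12.oneIrr H)).toFinset = S.X.toFinite.toFinset ∪ {η, η'} := by
      ext i
      rw [Set.mem_toFinset, ← D.union_eq_supp S, hY]
      simp
    have hdis : Disjoint S.X.toFinite.toFinset ({η, η'} : Finset (IrrCharacter G)) := by
      rw [Finset.disjoint_left]
      intro i hi hi'
      refine Set.disjoint_left.1 S.disj ((Set.Finite.mem_toFinset _).1 hi) ?_
      rw [hY]
      simpa using hi'
    have hsq : ∀ i ∈ S.X, (S.εX i : ℂ) * (S.εX i : ℂ) = 1 := fun i hi => by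
      rcases S.εX_eq i hi with h1 | h1 <;> rw [h1] <;> norm_num
    rw [blockSum, hset, Finset.sum_union hdis,
      ← Finset.add_sum_erase _ _ ((Set.Finite.mem_toFinset S.X.toFinite).2 honeX),
      ← hX₁, ← Finset.sum_filter_add_sum_filter_not X₁ (fun i => S.εX i = 1), ← hXp, ← hXm,
      Finset.sum_congr rfl (s₁ := Xp)
        (g := fun i : IrrCharacter G => conj ((i : G → ℂ) y) / (2 * (e : ℂ) + 2)) fun i hi => by
        have hiX := (hmemX i (Finset.mem_filter.1 hi).1).1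
        rw [(hxx i hiX).1, (hxx i hiX).2, hsq i hiX, one_mul, H12.irr_apply_one, hexp i hi]
        push_cast; rfl,
      Finset.sum_congr rfl (s₁ := Xm)
        (g := fun i : IrrCharacter G => conj ((i : G → ℂ) y) / (2 * (e : ℂ))) fun i hi => by
        have hiX := (hmemX i (Finset.mem_filter.1 hi).1).1
        rw [(hxx i hiX).1, (hxx i hiX).2, hsq i hiX, one_mul, H12.irr_apply_one, hexm i hi]
        push_cast; rfl,
      Finset.sum_pair hne, ← Finset.sum_div, ← Finset.sum_div, ← map_sum, ← map_sum]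
    rw [show (η' : G → ℂ) 1 = (η : G → ℂ) 1 by rw [H12.irr_apply_one, H12.irr_apply_one, hdη],
      show (one : G → ℂ) x = 1 from rfl, show (one : G → ℂ) x' = 1 from rfl,
      show (one : G → ℂ) y = 1 from rfl, show (one : G → ℂ) 1 = 1 from rfl]
    simp only [map_one, mul_one, div_one]
    ring
  · rw [← hrel g hg]
    rcases Nat.even_or_odd e with he | ho
    · rw [(hεD.2 he).1, if_neg (Nat.not_odd_iff_even.2 he)]; push_cast; ring
    · rw [(hεD.1 ho).1, if_pos ho]; push_cast; ring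
  · intro χ₁ χ₂ hne12 hd hreg
    have hd2 : H12.degree (χ₂ : G → ℂ) = e := by
      have h1 := hreg 1 (by simp [hp.out.ne_one])
      rw [H12.irr_apply_one, H12.irr_apply_one, hd] at h1
      exact_mod_cast h1.symm
    obtain ⟨hbp, hbm⟩ := hbudget χ₁ χ₂ hne12 hd hreg
    have hFc := isCharacter_mul_conj χ₁ χ₁
    obtain ⟨Q, hQ, hQ1, hQ2⟩ := card_le_classInner hFc _ hbp
    rw [Finset.card_insert_of_notMem hone_notmem] at hQ1 hQ2
    rcases Nat.even_or_odd e with he | ho
    · obtain ⟨-, hum'⟩ := sum_degree_le (isCharacter_mul_conj χ₁ χ₂) _ hbm (hF1 χ₁ χ₂ hd hd2)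
      have heq : ∑ i ∈ Xm, H12.degree (i : G → ℂ) = e * e := by
        rcases hab with ⟨-, h5, h6⟩ | ⟨-, h5, h6⟩
        · rw [hsm, h5, h6]; ring
        · exact absurd (h6 ▸ he) (by simp [Nat.even_add_one])
      refine ⟨fun g hg => ?_, Q, hQ, ?_⟩
      · rw [if_neg (Nat.not_odd_iff_even.2 he), ← hum' heq g]
        simp only [← hreg g hg]
      · rcases hab with ⟨h5, -, h6⟩ | ⟨-, -, h6⟩
        · refine le_trans (by omega) (hQ2 ⟨1, fun h1 => ?_⟩)
          rw [Finset.sum_insert hone_notmem, hF1 χ₁ χ₁ hd hd, hone, H12.oneIrr_apply] at h1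
          simp only [H12.irr_apply_one] at h1
          rw [← Nat.cast_sum, hsp] at h1
          have h7 : e * e = 1 + Xp.card * (2 * e + 2) := by exact_mod_cast h1
          nlinarith
        · exact absurd (h6 ▸ he) (by simp [Nat.even_add_one])
    · obtain ⟨-, hup'⟩ := sum_degree_le hFc _ hbp (hF1 χ₁ χ₁ hd hd)
      have heq : ∑ i ∈ insert one Xp, H12.degree (i : G → ℂ) = e * e := by
        rcases hab with ⟨-, -, h6⟩ | ⟨h5, -, h6⟩
        · exact absurd (h6 ▸ ho) (by simp)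
        · rw [Finset.sum_insert hone_notmem, hone_deg, hsp, h5, h6]; ring
      refine ⟨fun g _ => ?_, Q, hQ, ?_⟩
      · rw [if_pos ho, hup' heq g, Finset.sum_insert hone_notmem, hone, H12.oneIrr_apply]
      · refine le_trans ?_ hQ1
        rcases hab with ⟨-, -, h6⟩ | ⟨h5, -, h6⟩
        · exact absurd (h6 ▸ ho) (by simp)
        · omega

end Half

end H15.HalfDeg
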