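import Cfsg.Agent.H15.HalfDeg.OmegaBlock

/-!
Half degree (helper15): the values on regular elements are bounded by `1`, and the order of the
group.
-/

set_option autoImplicit false
set_option linter.style.haveILetI false
set_option linter.unusedSectionVars false

open Cfsg
open scoped ComplexConjugate

namespace H15.HalfDeg

open H85.D1

universe u

variable {G : Type u} [Group G] [Fintype G] {p : ℕ} [hp : Fact p.Prime]
  {P : Sylow p G} {u a : G} {H : Subgroup G} [Fintype H] {D : Setting P u a H}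
  [Fintype (D.aut (H12.oneIrr H))] {e : ℕ} {χ : IrrCharacter G} {θ : IrrCharacter H}
  {ψ : (P : Subgroup G) →* ℂˣ}

namespace Half

variable (h : Half D e χ θ ψ)
include h

theorem normSq_lt {g : G} (hg : g ∉ H) :
    Complex.normSq ((χ : G → ℂ) g) < (e : ℝ) ^ 2 := by
  have hle : ‖(χ : G → ℂ) g‖ ≤ (e : ℝ) := by
    rw [← h.degree_eq]; exact H12.IsCharacter.norm_le (H12.isCharacter_irr χ) g
  have hne : ‖(χ : G → ℂ) g‖ ≠ (e : ℝ) := fun he => hg (by
    rw [h.center_eq]
    exact mem_center_of_norm χ h.faithful (by rw [he, h.degree_eq]))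
  rw [Complex.normSq_eq_norm_sq]
  exact pow_lt_pow_left₀ (lt_of_le_of_ne hle hne) (norm_nonneg _) two_ne_zero

variable {M : Ideal AlgInt} [hMp : M.IsPrime] (hM : IsPModular p M)
include hM

/-- The values on regular non-central elements. -/
theorem normSq_le_one {y : G} (hy : ¬ p ∣ orderOf y) (hyH : y ∉ H) :
    Complex.normSq ((χ : G → ℂ) y) ≤ 1 := by
  classical
  haveI : Fintype (P : Subgroup G) := Fintype.ofFinite _
  haveI : Fintype (D.aut θ) := Fintype.ofFinite _
  obtain ⟨Sθ⟩ := D.exists_shape hM θ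
  obtain ⟨-, χ', hχne, -, -, hregχ, -⟩ := h.exists_partner hM Sθ
  obtain ⟨η, η', Xp, Xm, hne, hηs, hregη, -, hηP, hdo, hde, -, hblock, hrel, hpair⟩ :=
    h.exists_principal hM
  obtain ⟨v, hv1, hst, hnsq, -, -, -⟩ := h.exists_periods
  set T := Complex.normSq ((χ : G → ℂ) y) with hT
  have hTlt : T < (e : ℝ) ^ 2 := h.normSq_lt hyH
  have hT0 : 0 ≤ T := Complex.normSq_nonneg _
  have he2 : (2 : ℝ) ≤ (e : ℝ) := by exact_mod_cast h.two_le
  set u₁ : (P : Subgroup G) := ⟨u, D.u_mem⟩ with hu₁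
  have hu1 : u₁ ≠ 1 := fun h' => D.u_ne_one (congrArg Subtype.val h')
  set s := (χ : G → ℂ) u with hs
  set t := (χ : G → ℂ) (v : G) with ht
  have hnsqC : s * conj s + t * conj t = (e : ℂ) + 1 := by
    rw [Complex.mul_conj, Complex.mul_conj]; exact_mod_cast hnsq
  have hct : conj s + conj t = -1 := by rw [← map_add, hst]; simp
  have hval1 : (χ : G → ℂ) ((u₁⁻¹ : (P : Subgroup G)) : G) = conj s := by
    rw [Subgroup.coe_inv, H12.irr_inv]
  have hval2 : (χ : G → ℂ) ((v⁻¹ : (P : Subgroup G)) : G) = conj t := by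
    rw [Subgroup.coe_inv, H12.irr_inv]
  -- the two pairs
  have hc1 : (χ : G → ℂ) u₁ * (χ : G → ℂ) (u₁⁻¹ : (P : Subgroup G)) +
      (-1 - (χ : G → ℂ) u₁) * (-1 - (χ : G → ℂ) (u₁⁻¹ : (P : Subgroup G))) = (e : ℂ) + 1 := by
    rw [hval1, show (χ : G → ℂ) (u₁ : G) = s from rfl]
    linear_combination hnsqC + (-t) * hct + (1 + conj s) * hst
  have hc2 : (χ : G → ℂ) u₁ * (χ : G → ℂ) (v⁻¹ : (P : Subgroup G)) +
      (-1 - (χ : G → ℂ) u₁) * (-1 - (χ : G → ℂ) (v⁻¹ : (P : Subgroup G))) = -(e : ℂ) := by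
    rw [hval2, show (χ : G → ℂ) (u₁ : G) = s from rfl]
    linear_combination (-1 : ℂ) * hnsqC + (s + t + 1 + s) * hct + (-1 - conj s) * hst
  have hprin : ∀ (x' : (P : Subgroup G)), x' ≠ 1 → ∀ c : ℂ,
      (χ : G → ℂ) u₁ * (χ : G → ℂ) x' +
        (-1 - (χ : G → ℂ) u₁) * (-1 - (χ : G → ℂ) x') = c →
      blockSum D (H12.oneIrr H) u₁ x' y = 1 +
          conj (∑ i ∈ Xp, (i : G → ℂ) y) / (2 * (e : ℂ) + 2) +
          conj (∑ i ∈ Xm, (i : G → ℂ) y) / (2 * (e : ℂ)) +
          c * conj ((η : G → ℂ) y) / (η : G → ℂ) 1 := by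
    intro x' hx' c hc
    rw [hblock u₁ x' hu1 hx' y, ← hregη y hy, ← add_mul]
    congr 3
    rcases Nat.even_or_odd e with he | ho
    · rw [((hηP u₁ hu1).2 he).1, ((hηP u₁ hu1).2 he).2, ((hηP x' hx').2 he).1,
        ((hηP x' hx').2 he).2, ← hc]
      ring
    · rw [((hηP u₁ hu1).1 ho).1, ((hηP u₁ hu1).1 ho).2, ((hηP x' hx').1 ho).1,
        ((hηP x' hx').1 ho).2, ← hc]
  have hu1i : u₁⁻¹ ≠ 1 := inv_ne_one.2 hu1
  have hv1i : v⁻¹ ≠ 1 := inv_ne_one.2 hv1
  have hu1G : (u₁ : G) ≠ 1 := fun h' => hu1 (Subtype.ext h')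
  obtain ⟨r₁, hr₁0, hr₁, hb₁⟩ := blockSum_bound D hM h.central_le u₁.2 hu1G
    ((u₁⁻¹ : (P : Subgroup G)) : G) y
  obtain ⟨r₂, hr₂0, hr₂, hb₂⟩ := blockSum_bound D hM h.central_le u₁.2 hu1G
    ((v⁻¹ : (P : Subgroup G)) : G) y
  rw [hprin _ hu1i _ hc1] at hr₁
  rw [hprin _ hv1i _ hc2] at hr₂
  have hmul : (χ : G → ℂ) y * conj ((χ : G → ℂ) y) = (T : ℂ) := Complex.mul_conj _
  have hTχ := (hpair χ χ' hχne h.degree_eq hregχ).1 y hy
  rw [hmul] at hTχ
  have hrel' := hrel y hy
  set w := (η : G → ℂ) y with hw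
  have hep : (e : ℂ) ≠ 0 := Nat.cast_ne_zero.2 (by have := h.two_le; omega)
  have he1 : (e : ℂ) + 1 ≠ 0 := by exact_mod_cast (Nat.succ_ne_zero e)
  rcases Nat.even_or_odd e with hev | hodd
  · have hno : ¬ Odd e := Nat.not_odd_iff_even.2 hev
    rw [if_neg hno] at hTχ hrel'
    have hXm : ∑ i ∈ Xm, (i : G → ℂ) y = (T : ℂ) := hTχ.symm
    have hXp : ∑ i ∈ Xp, (i : G → ℂ) y = (T : ℂ) - w - 1 := by
      linear_combination (-1 : ℂ) * hrel' + hXm
    rw [hXm, hXp, H12.irr_apply_one, hde hev] at hr₁ hr₂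
    simp only [map_sub, map_one, Complex.conj_ofReal] at hr₁ hr₂
    push_cast at hr₁ hr₂
    have e1 : (2 * (e : ℂ) + 1) * ((e : ℂ) + T + e * conj w) =
        2 * e * ((e : ℂ) + 1) * (r₁ : ℂ) := by
      rw [← hr₁]; field_simp; ring
    have e2 : (2 * (e : ℂ) + 1) * ((e : ℂ) + T - e * conj w) =
        2 * e * ((e : ℂ) + 1) * (r₂ : ℂ) := by
      rw [← hr₂]; field_simp; ring
    have hwim : w.im = 0 := by
      have h1 := congrArg Complex.im e1
      simp [Complex.mul_im, Complex.mul_re] at h1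
      rcases h1 with h1 | h1
      · exact absurd h1 (by positivity)
      · rcases h1 with h1 | h1
        · exact absurd h1 (by have := h.two_le; omega)
        · exact h1
    set k := w.re with hk
    have hwk : w = (k : ℂ) := Complex.ext (by simp [hk]) (by simp [hwim])
    rw [hwk, Complex.conj_ofReal] at e1 e2
    have q1 : (2 * (e : ℝ) + 1) * ((e : ℝ) + T + e * k) = 2 * e * ((e : ℝ) + 1) * r₁ := by
      exact_mod_cast e1
    have q2 : (2 * (e : ℝ) + 1) * ((e : ℝ) + T - e * k) = 2 * e * ((e : ℝ) + 1) * r₂ := by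
      exact_mod_cast e2
    have hom := h.exists_omega hM hev hηs (hde hev) fun x hx => ((hηP x hx).2 hev).1
    have o1 := hb₁ θ
    have o2 := hb₂ θ
    rw [hom u₁ _ hu1 hu1i y hy, hc1, ← hw, hwk] at o1
    rw [hom u₁ _ hu1 hv1i y hy, hc2, ← hw, hwk] at o2
    simp only [map_sub, map_mul, Complex.conj_ofReal] at o1 o2
    set X := conj ((χ : G → ℂ) y) with hX
    have i1 : X * (k : ℂ) / (2 * (e : ℂ) + 2) + (X * (k : ℂ) - X) / (2 * (e : ℂ)) +
        ((e : ℂ) + 1) * X / (e : ℂ) =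
        X * (((2 * (e : ℝ) + 1) * (k + e + 1) / (2 * e * ((e : ℝ) + 1)) : ℝ) : ℂ) := by
      push_cast; field_simp; ring
    have i2 : X * (k : ℂ) / (2 * (e : ℂ) + 2) + (X * (k : ℂ) - X) / (2 * (e : ℂ)) +
        -(e : ℂ) * X / (e : ℂ) =
        X * (((2 * (e : ℝ) + 1) * (k - e - 1) / (2 * e * ((e : ℝ) + 1)) : ℝ) : ℂ) := by
      push_cast; field_simp; ring
    rw [i1, norm_mul, Complex.norm_real, Real.norm_eq_abs] at o1
    rw [i2, norm_mul, Complex.norm_real, Real.norm_eq_abs] at o2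
    set A := ‖X‖ with hA
    have hA0 : 0 ≤ A := norm_nonneg _
    have hA2 : A ^ 2 = T := by
      rw [hA, hX, Complex.norm_conj, hT, Complex.normSq_eq_norm_sq]
    have hden : 0 < 2 * (e : ℝ) * ((e : ℝ) + 1) := by positivity
    have p1 : A * (k + e + 1) ≤ (e : ℝ) + T + e * k := by
      have h1 : A * ((2 * (e : ℝ) + 1) * (k + e + 1) / (2 * e * ((e : ℝ) + 1))) ≤ r₁ :=
        (mul_le_mul_of_nonneg_left (le_abs_self _) hA0).trans o1
      rw [mul_div_assoc', div_le_iff₀ hden, mul_comm r₁, ← q1] at h1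
      nlinarith
    have p2 : A * (-k + e + 1) ≤ (e : ℝ) + T - e * k := by
      have h1 : A * (-((2 * (e : ℝ) + 1) * (k - e - 1) / (2 * e * ((e : ℝ) + 1)))) ≤ r₂ :=
        (mul_le_mul_of_nonneg_left (neg_le_abs _) hA0).trans o2
      rw [← neg_div, mul_div_assoc', div_le_iff₀ hden, mul_comm r₂, ← q2] at h1
      nlinarith
    have hAe : A < e := by
      by_contra hge
      have := pow_le_pow_left₀ (by positivity : (0 : ℝ) ≤ e) (not_lt.1 hge) 2
      linarith
    have f1 : A ≤ k + 1 := by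
      by_contra hc
      have := mul_pos (sub_pos.2 hAe) (sub_pos.2 (not_le.1 hc))
      nlinarith
    have f2 : A ≤ -k + 1 := by
      by_contra hc
      have := mul_pos (sub_pos.2 hAe) (sub_pos.2 (not_le.1 hc))
      nlinarith
    rw [← hA2]
    exact pow_le_one₀ hA0 (by linarith)
  · rw [if_pos hodd] at hTχ hrel'
    have hXp : ∑ i ∈ Xp, (i : G → ℂ) y = (T : ℂ) - 1 := by linear_combination -hTχ
    have hXm : ∑ i ∈ Xm, (i : G → ℂ) y = (T : ℂ) - w := by
      linear_combination hrel' - hTχ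
    rw [hXm, hXp, H12.irr_apply_one, hdo hodd] at hr₁ hr₂
    simp only [map_sub, map_one, Complex.conj_ofReal] at hr₁ hr₂
    have e1 : (2 * (e : ℂ) + 1) * ((e : ℂ) + T + ((e : ℂ) + 1) * conj w) =
        2 * e * ((e : ℂ) + 1) * (r₁ : ℂ) := by
      rw [← hr₁]; field_simp; ring
    have e2 : (2 * (e : ℂ) + 1) * ((e : ℂ) + T - ((e : ℂ) + 1) * conj w) =
        2 * e * ((e : ℂ) + 1) * (r₂ : ℂ) := by
      rw [← hr₂]; field_simp; ring
    have hwim : w.im = 0 := by
      have h1 := congrArg Complex.im e1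
      simp [Complex.mul_im, Complex.mul_re] at h1
      rcases h1 with h1 | h1
      · exact absurd h1 (by positivity)
      · rcases h1 with h1 | h1
        · exact absurd h1 (by positivity)
        · exact h1
    set k := w.re with hk
    have hwk : w = (k : ℂ) := Complex.ext (by simp [hk]) (by simp [hwim])
    rw [hwk, Complex.conj_ofReal] at e1 e2
    have q1 : (2 * (e : ℝ) + 1) * ((e : ℝ) + T + ((e : ℝ) + 1) * k) =
        2 * e * ((e : ℝ) + 1) * r₁ := by exact_mod_cast e1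
    have q2 : (2 * (e : ℝ) + 1) * ((e : ℝ) + T - ((e : ℝ) + 1) * k) =
        2 * e * ((e : ℝ) + 1) * r₂ := by exact_mod_cast e2
    have hTη := (hpair η η' hne (hdo hodd) hregη).1 y hy
    rw [if_pos hodd] at hTη
    have hTk : T = k * k := by
      have h1 : ((T : ℝ) : ℂ) = ((k * k : ℝ) : ℂ) := by
        rw [hTχ, ← hTη, ← hw, hwk, Complex.conj_ofReal]; push_cast; ring
      exact_mod_cast h1
    have g1 : 0 ≤ (e : ℝ) + T + ((e : ℝ) + 1) * k := by
      have h1 : 0 ≤ 2 * e * ((e : ℝ) + 1) * r₁ := by positivity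
      rw [← q1] at h1
      exact nonneg_of_mul_nonneg_right h1 (by positivity)
    have g2 : 0 ≤ (e : ℝ) + T - ((e : ℝ) + 1) * k := by
      have h1 : 0 ≤ 2 * e * ((e : ℝ) + 1) * r₂ := by positivity
      rw [← q2] at h1
      exact nonneg_of_mul_nonneg_right h1 (by positivity)
    by_contra hc
    rcases le_or_gt 0 k with hk0 | hk0
    · have h1 : 1 < k := by nlinarith
      have h2 : k < e := by nlinarith
      have := mul_pos (sub_pos.2 h1) (sub_pos.2 h2)
      nlinarith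
    · have h1 : k < -1 := by nlinarith
      have h2 : -(e : ℝ) < k := by nlinarith
      have := mul_pos (sub_pos.2 h1) (sub_pos.2 h2)
      nlinarith

/-- The order of the group and the number of Sylow subgroups. -/
theorem card_eq (hnn : ¬ (P : Subgroup G).Normal) :
    Nat.card (Sylow p G) = p + 1 ∧ Nat.card G = p * e * (p + 1) * Nat.card H := by
  classical
  haveI : Fintype (P : Subgroup G) := Fintype.ofFinite _
  haveI : Fintype (D.aut θ) := Fintype.ofFinite _
  obtain ⟨Sθ⟩ := D.exists_shape hM θ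
  obtain ⟨-, χ', hχne, -, -, hregχ, -⟩ := h.exists_partner hM Sθ
  obtain ⟨η, η', Xp, Xm, -, -, -, -, -, -, -, -, -, -, hpair⟩ := h.exists_principal hM
  obtain ⟨Q, hQ, hQle⟩ := (hpair χ χ' hχne h.degree_eq hregχ).2
  set T : G → ℝ := fun g => Complex.normSq ((χ : G → ℂ) g) with hT
  set F : G → ℝ := fun g => T g ^ 2 - T g with hF
  have hmc : ∀ g, (χ : G → ℂ) g * conj ((χ : G → ℂ) g) = (T g : ℂ) := fun g => Complex.mul_conj _
  have hsum1 : ∑ g, T g = (Nat.card G : ℝ) := by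
    have h1 := H12.sum_mul_conj_eq_card_mul (χ : G → ℂ) (χ : G → ℂ)
    rw [H12.classInner_irr_self, mul_one] at h1
    simp only [hmc] at h1
    exact_mod_cast h1
  have hsum2 : ∑ g, T g ^ 2 = (Nat.card G : ℝ) * Q := by
    have h1 := H12.sum_mul_conj_eq_card_mul (fun g => (χ : G → ℂ) g * conj ((χ : G → ℂ) g))
      (fun g => (χ : G → ℂ) g * conj ((χ : G → ℂ) g))
    rw [hQ] at h1
    simp only [hmc, Complex.conj_ofReal] at h1
    simp only [pow_two]
    exact_mod_cast h1
  have hFsum : ∑ g, F g = (Nat.card G : ℝ) * ((Q : ℝ) - 1) := by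
    simp only [hF, Finset.sum_sub_distrib, hsum1, hsum2]; ring
  have he2 : (2 : ℝ) ≤ (e : ℝ) := by exact_mod_cast h.two_le
  have hregle : ∀ g : G, ¬ p ∣ orderOf g →
      F g ≤ if g ∈ H then (e : ℝ) ^ 4 - (e : ℝ) ^ 2 else 0 := by
    intro g hg
    split_ifs with hgH
    · have h1 : T g = (e : ℝ) ^ 2 := by
        simp only [hT]
        rw [show g = ((⟨g, hgH⟩ : H) : G) from rfl, apply_center D h.central_le hM h.mem_supp,
          h.degree_eq, Complex.normSq_mul, Complex.normSq_eq_norm_sq,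
          norm_lin D h.central_le θ, Complex.normSq_natCast]
        ring
      simp only [hF, h1]
      exact le_of_eq (by ring)
    · have h1 := h.normSq_le_one hM hg hgH
      have h0 : 0 ≤ T g := Complex.normSq_nonneg _
      simp only [hF]
      nlinarith
  have hc0 : 0 ≤ (e : ℝ) ^ 4 - (e : ℝ) ^ 2 :=
    sub_nonneg.2 (pow_le_pow_right₀ (by linarith) (by norm_num))
  have hreg : ∑ g ∈ Finset.univ.filter (fun g : G => ¬ p ∣ orderOf g), F g ≤
      (Nat.card H : ℝ) * ((e : ℝ) ^ 4 - (e : ℝ) ^ 2) := by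
    refine (Finset.sum_le_sum fun g hg => hregle g (Finset.mem_filter.1 hg).2).trans ?_
    refine (Finset.sum_le_sum_of_subset_of_nonneg (Finset.subset_univ _) fun g _ _ => ?_).trans ?_
    · split_ifs
      · exact hc0
      · exact le_refl 0
    · rw [← Finset.sum_filter, Finset.sum_const, nsmul_eq_mul,
        ← Nat.subtype_card _ (fun x => by simp : ∀ x : G, x ∈ Finset.univ.filter (· ∈ H) ↔ x ∈ H)]
  have hsing := sum_singular D h.central_le (F := F)
    (fun g t => by simp only [hF, hT]; rw [H12.irr_isClassFunction χ g t])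
    (fun x _ _ k => by
      simp only [hF, hT]
      rw [central_mul D h.central_le hM h.mem_supp x k, Complex.normSq_mul,
        Complex.normSq_eq_norm_sq, norm_lin D h.central_le θ, one_pow, one_mul])
  rw [h.card_aut] at hsing
  have hfour := h.sum_fourth
  have hsplit := Finset.sum_filter_add_sum_filter_not Finset.univ (fun g : G => p ∣ orderOf g) F
  rw [hFsum] at hsplit
  have hp' : (p : ℝ) = 2 * (e : ℝ) + 1 := by rw [← h.hpe]; push_cast; ring
  have hQ' : ((e / 2 : ℕ) : ℝ) ≤ (Q : ℝ) - 1 := by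
    have : ((e / 2 + 1 : ℕ) : ℝ) ≤ (Q : ℝ) := by exact_mod_cast hQle
    push_cast at this
    linarith
  set S := ∑ g ∈ Finset.univ.filter (fun g : G => p ∣ orderOf g), F g
  set RS := ∑ g ∈ Finset.univ.filter (fun g : G => ¬ p ∣ orderOf g), F g
  have hg0 : (0 : ℝ) ≤ (Nat.card G : ℝ) := Nat.cast_nonneg _
  have hmain : (Nat.card G : ℝ) * ((e : ℝ) * ((e : ℝ) - 1)) ≤
      2 * (p : ℝ) * (Nat.card H : ℝ) * ((e : ℝ) ^ 4 - (e : ℝ) ^ 2) := by
    have h1 : (e : ℝ) * (2 * (p : ℝ) * S) =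
        (e : ℝ) * ((Nat.card G : ℝ) * (2 * (p : ℝ) * ((e / 2 : ℕ) : ℝ) -
          (e : ℝ) * ((e : ℝ) - 1))) := by
      push_cast at hsing
      simp only [hF, hT] at hsing hfour ⊢
      linear_combination 2 * hsing + (Nat.card G : ℝ) * hfour
    have h2 := mul_left_cancel₀ (by positivity : (e : ℝ) ≠ 0) h1
    have h3 : (Nat.card G : ℝ) * ((e / 2 : ℕ) : ℝ) ≤ (Nat.card G : ℝ) * ((Q : ℝ) - 1) :=
      mul_le_mul_of_nonneg_left hQ' hg0
    have hp0 : (0 : ℝ) ≤ 2 * (p : ℝ) := by positivity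
    have h4 := mul_le_mul_of_nonneg_left h3 hp0
    have h5 := mul_le_mul_of_nonneg_left hreg hp0
    nlinarith
  have hle : (Nat.card G : ℝ) ≤ ((2 * p * Nat.card H * e * (e + 1) : ℕ) : ℝ) := by
    have hpos : (0 : ℝ) < (e : ℝ) * ((e : ℝ) - 1) := mul_pos (by linarith) (by linarith)
    refine le_of_mul_le_mul_left ?_ hpos
    push_cast
    nlinarith
  have hle' : Nat.card G ≤ 2 * p * Nat.card H * e * (e + 1) := by exact_mod_cast hle
  have hN : Nat.card (Subgroup.normalizer ((P : Subgroup G) : Set G)) = p * Nat.card H * e := by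
    rw [← D.card_orbit (H12.oneIrr H), orbit_eq D h.central_le, D.card_stab, D.card_centralizer,
      h.card_aut]
    simp
  have hidx : Nat.card G = p * Nat.card H * e * Nat.card (Sylow p G) := by
    rw [← hN, show Nat.card (Sylow p G) =
      (Subgroup.normalizer ((P : Subgroup G) : Set G)).index from P.card_eq_index_normalizer]
    exact (Subgroup.card_mul_index _).symm
  have hn : Nat.card (Sylow p G) = p + 1 := by
    have hz := Nat.card_pos (α := H)
    have hpos : 0 < p * Nat.card H * e :=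
      Nat.mul_pos (Nat.mul_pos hp.out.pos hz) (by have := h.two_le; omega)
    have h1 : p * Nat.card H * e * Nat.card (Sylow p G) ≤ p * Nat.card H * e * (p + 1) := by
      rw [← hidx]
      refine hle'.trans (le_of_eq ?_)
      rw [← h.hpe]; ring
    have h2 := Nat.le_of_mul_le_mul_left h1 hpos
    have h3 := card_sylow_modEq_one p G
    have h4 : Nat.card (Sylow p G) ≠ 1 := fun h1' => hnn (by
      haveI : Subsingleton (Sylow p G) := (Nat.card_eq_one_iff_unique.1 h1').1
      exact P.normal_of_subsingleton)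
    have h5 : Nat.card (Sylow p G) % p = 1 := by
      rw [h3, Nat.one_mod_eq_one]; exact hp.out.ne_one
    have h6 := Nat.div_add_mod (Nat.card (Sylow p G)) p
    rcases Nat.lt_or_ge (Nat.card (Sylow p G) / p) 2 with h7 | h7
    · rcases Nat.lt_or_ge (Nat.card (Sylow p G) / p) 1 with h8 | h8
      · rw [Nat.lt_one_iff.1 h8, Nat.mul_zero] at h6; omega
      · rw [show Nat.card (Sylow p G) / p = 1 by omega, Nat.mul_one] at h6; omega
    · have := Nat.mul_le_mul_left p h7
      have := hp.out.two_le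
      omega
  refine ⟨hn, ?_⟩
  rw [hidx, hn]; ring

end Half

end H15.HalfDeg
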