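import Cfsg.Agent.H15.HalfDeg.Blocks

/-!
Half degree (helper15): the block of the faithful character when `e` is even.
-/

set_option autoImplicit false
set_option linter.style.haveILetI false
set_option linter.unusedSectionVars false

open Cfsg
open scoped ComplexConjugate

namespace H15.HalfDeg

open H85.D1

universe u

variable {G : Type u} [Group G] [Fintype G] {p : ℕ} [hp : Fact p.Prime]
  {P : Sylow p G} {u a : G} {H : Subgroup G} [Fintype H] {D : Setting P u a H}
  [Fintype (D.aut (H12.oneIrr H))] {e : ℕ} {χ : IrrCharacter G} {θ : IrrCharacter H}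
  {ψ : (P : Subgroup G) →* ℂˣ}

namespace Half

variable (h : Half D e χ θ ψ) {M : Ideal AlgInt} [hMp : M.IsPrime] (hM : IsPModular p M)
include h hM

theorem exists_omega [Fintype (P : Subgroup G)] (hev : Even e) {η : IrrCharacter G}
    (hη : η ∈ D.supp (H12.oneIrr H)) (hηd : H12.degree (η : G → ℂ) = e + 1)
    (hηv : ∀ x : (P : Subgroup G), x ≠ 1 → (η : G → ℂ) x = -(χ : G → ℂ) x) :
    ∀ x x' : (P : Subgroup G), x ≠ 1 → x' ≠ 1 → ∀ y : G, ¬ p ∣ orderOf y →
      blockSum D θ x x' y =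
        conj ((χ : G → ℂ) y * (η : G → ℂ) y) / (2 * (e : ℂ) + 2) +
        conj ((χ : G → ℂ) y * (η : G → ℂ) y - (χ : G → ℂ) y) / (2 * (e : ℂ)) +
        ((χ : G → ℂ) x * (χ : G → ℂ) x' +
          (-1 - (χ : G → ℂ) x) * (-1 - (χ : G → ℂ) x')) * conj ((χ : G → ℂ) y) / (e : ℂ) := by
  classical
  haveI : Fintype (D.aut θ) := Fintype.ofFinite _
  obtain ⟨S⟩ := D.exists_shape hM θ
  obtain ⟨hε, χ', hne, hY, hdeg', hreg, hχ'v⟩ := h.exists_partner hM S
  have hH := h.central_le
  have hsupp : ∀ i ∈ S.X ∪ S.Y, i ∈ D.supp θ := fun i hi => (D.union_eq_supp S).subset hi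
  have hp5 := h.hpe
  have he2 := h.two_le
  have hu : (⟨u, D.u_mem⟩ : (P : Subgroup G)) ≠ 1 :=
    fun h' => D.u_ne_one (congrArg Subtype.val h')
  -- the block is not principal
  have hθ : θ ≠ H12.oneIrr H := by
    intro hθ
    have hηθ : η ∈ D.supp θ := by rw [hθ]; exact hη
    rcases (D.union_eq_supp S).symm.subset hηθ with h1 | h1
    · obtain ⟨k, hk⟩ := h.degree_colX hM hηθ (ε := S.εX η) fun x hx hx1 =>
        S.colX η h1 ⟨x, hx⟩ fun h' => hx1 (congrArg Subtype.val h')
      rw [hηd] at hk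
      have h2 := Int.eq_zero_of_abs_lt_dvd ⟨k, hk⟩ (by
        rcases S.εX_eq η h1 with h3 | h3 <;> rw [h3, abs_lt] <;> omega)
      rcases S.εX_eq η h1 with h3 | h3 <;> rw [h3] at h2 <;> omega
    · rw [hY] at h1
      rcases h1 with h1 | h1
      · rw [h1, h.degree_eq] at hηd; omega
      · rw [Set.mem_singleton_iff.1 h1, hdeg'] at hηd; omega
  have hone : H12.oneIrr G ∈ D.supp (H12.oneIrr H) :=
    ⟨⟨u, D.u_mem⟩, hu, by simp [Setting.col, H12.oneIrr_apply]⟩
  set Xp := S.X.toFinite.toFinset.filter fun i => S.εX i = 1 with hXp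
  set Xm := S.X.toFinite.toFinset.filter fun i => ¬ S.εX i = 1 with hXm
  have hmemX : ∀ i ∈ S.X.toFinite.toFinset, i ∈ S.X := fun i hi =>
    (Set.Finite.mem_toFinset _).1 hi
  have hmεm : ∀ i ∈ Xm, S.εX i = -1 := fun i hi => by
    obtain ⟨hi1, hi2⟩ := Finset.mem_filter.1 hi
    rcases S.εX_eq i (hmemX i hi1) with h1 | h1
    · exact absurd h1 hi2
    · exact h1
  have hcard : Xp.card + Xm.card = e := by
    rw [hXp, hXm, Finset.card_filter_add_card_filter_not, ← Set.ncard_eq_toFinset_card,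
      ← Nat.card_coe_set_eq, S.card_X, aut_eq D hH θ, h.card_aut]
  have hxval : ∀ i ∈ S.X, ∀ x : (P : Subgroup G), x ≠ 1 → (i : G → ℂ) x = (S.εX i : ℂ) :=
    fun i hi x hx => by
      rw [apply_eq_col D hH hM (hsupp i (Or.inl hi)) x.2 fun h' => hx (Subtype.ext h'),
        S.colX i hi x hx]
  have hpZ : (p : ℤ) = 2 * e + 1 := by exact_mod_cast h.hpe.symm
  have hdegp : ∀ i ∈ Xp, H12.degree (i : G → ℂ) = 2 * e + 2 ∨
      4 * e + 3 ≤ H12.degree (i : G → ℂ) := by
    intro i hi
    obtain ⟨hi1, hi2⟩ := Finset.mem_filter.1 hi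
    have hiX := hmemX i hi1
    obtain ⟨k, hk⟩ := h.degree_colX hM (hsupp i (Or.inl hiX)) (ε := S.εX i)
      fun x hx hx1 => S.colX i hiX ⟨x, hx⟩ fun h' => hx1 (congrArg Subtype.val h')
    rw [hi2] at hk
    have hpos := H12.irr_degree_pos i
    have hne1 : H12.degree (i : G → ℂ) ≠ 1 := by
      intro h5
      obtain ⟨l, hl⟩ := H12.exists_monoidHom_of_apply_one_eq_one (H12.isCharacter_irr i)
        (by rw [H12.irr_apply_one, h5, Nat.cast_one])
      have h6 : i = H12.oneIrr G := Subtype.ext (funext fun y => by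
        rw [← congrFun hl y, h.perfect l, H12.oneIrr_apply]; simp)
      exact hθ (supp_inj D hH hM (hsupp i (Or.inl hiX)) (h6 ▸ hone))
    rw [hpZ] at hk
    rcases le_or_gt k 0 with hk0 | hk0
    · have : (2 * (e : ℤ) + 1) * k ≤ 0 := mul_nonpos_of_nonneg_of_nonpos (by positivity) hk0
      omega
    rcases eq_or_lt_of_le (by omega : (1 : ℤ) ≤ k) with hk1 | hk1
    · rw [← hk1] at hk; omega
    · have : (2 * (e : ℤ) + 1) * 2 ≤ (2 * (e : ℤ) + 1) * k :=
        mul_le_mul_of_nonneg_left (by omega) (by positivity)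
      omega
  have hdegm : ∀ i ∈ Xm, H12.degree (i : G → ℂ) = 2 * e ∨
      4 * e + 1 ≤ H12.degree (i : G → ℂ) := by
    intro i hi
    have hiX := hmemX i (Finset.mem_filter.1 hi).1
    obtain ⟨k, hk⟩ := h.degree_colX hM (hsupp i (Or.inl hiX)) (ε := S.εX i)
      fun x hx hx1 => S.colX i hiX ⟨x, hx⟩ fun h' => hx1 (congrArg Subtype.val h')
    rw [hmεm i hi, hpZ] at hk
    have hpos := H12.irr_degree_pos i
    rcases le_or_gt k 0 with hk0 | hk0
    · have : (2 * (e : ℤ) + 1) * k ≤ 0 := mul_nonpos_of_nonneg_of_nonpos (by positivity) hk0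
      omega
    rcases eq_or_lt_of_le (by omega : (1 : ℤ) ≤ k) with hk1 | hk1
    · rw [← hk1] at hk; omega
    · have : (2 * (e : ℤ) + 1) * 2 ≤ (2 * (e : ℤ) + 1) * k :=
        mul_le_mul_of_nonneg_left (by omega) (by positivity)
      omega
  -- the difference of the two products
  obtain ⟨v, -, hst, hnsq, him, -, hsum⟩ := h.exists_periods
  have hkey : ∀ i ∈ S.X, ∃ j k : ℕ,
      classInner (fun g => (χ : G → ℂ) g * (η : G → ℂ) g) (i : G → ℂ) = j ∧
      classInner (fun g => (χ' : G → ℂ) g * (η : G → ℂ) g) (i : G → ℂ) = k ∧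
      (j : ℤ) - k = - S.εX i := by
    intro i hi
    obtain ⟨j, hj⟩ := H12.IsCharacter.classInner_nat (H12.IsCharacter.mul (H12.isCharacter_irr χ)
      (H12.isCharacter_irr η)) (H12.isCharacter_irr i)
    obtain ⟨k, hk⟩ := H12.IsCharacter.classInner_nat (H12.IsCharacter.mul (H12.isCharacter_irr χ')
      (H12.isCharacter_irr η)) (H12.isCharacter_irr i)
    refine ⟨j, k, hj, hk, ?_⟩
    let F : G → ℝ := fun g =>
      (((χ : G → ℂ) g - (χ' : G → ℂ) g) * (η : G → ℂ) g * conj ((i : G → ℂ) g)).re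
    have h1 : (Nat.card G : ℝ) * ((j : ℝ) - k) = ∑ g : G, F g := by
      have hj' := congrArg ((Nat.card G : ℂ) * ·) hj
      have hk' := congrArg ((Nat.card G : ℂ) * ·) hk
      simp only [← H12.sum_mul_conj_eq_card_mul, Pi.mul_apply] at hj' hk'
      have h2 : (Nat.card G : ℂ) * ((j : ℂ) - k) = ∑ g : G,
          ((χ : G → ℂ) g - (χ' : G → ℂ) g) * (η : G → ℂ) g * conj ((i : G → ℂ) g) := by
        rw [mul_sub, ← hj', ← hk', ← Finset.sum_sub_distrib]
        exact Finset.sum_congr rfl fun g _ => by ring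
      have h3 := congrArg Complex.re h2
      rw [Complex.re_sum] at h3
      simpa [F, Complex.mul_re] using h3
    have h2 : ∑ g : G, F g = ∑ g ∈ Finset.univ.filter (fun g : G => p ∣ orderOf g), F g := by
      refine (Finset.sum_filter_of_ne fun g _ hg => ?_).symm
      by_contra hng
      exact hg (by simp [F, hreg g hng])
    have hfun : ∀ g t : G, F (t * g * t⁻¹) = F g := fun g t => by
      simp only [F]
      rw [H12.irr_isClassFunction χ g t, H12.irr_isClassFunction χ' g t,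
        H12.irr_isClassFunction η g t, H12.irr_isClassFunction i g t]
    have hFH : ∀ x ∈ (P : Subgroup G), x ≠ 1 → ∀ k : H, F (x * k) = F x := fun x _ _ k => by
      simp only [F]
      rw [central_mul D hH hM h.mem_supp x k, central_mul D hH hM hη x k,
        central_mul D hH hM (hsupp χ' (Or.inr (by rw [hY]; exact Or.inr rfl))) x k,
        central_mul D hH hM (hsupp i (Or.inl hi)) x k, H12.oneIrr_apply, map_mul]
      have hn : (θ : H → ℂ) k * conj ((θ : H → ℂ) k) = 1 := by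
        rw [Complex.mul_conj, Complex.normSq_eq_norm_sq, norm_lin D hH θ k]; simp
      congr 1
      linear_combination (((χ : G → ℂ) x - (χ' : G → ℂ) x) * (η : G → ℂ) x *
        conj ((i : G → ℂ) x)) * hn
    have h3 := sum_singular D hH hfun hFH
    rw [h.card_aut, ← h2, ← h1] at h3
    have hFP : ∀ x : (P : Subgroup G), x ≠ 1 →
        F x = -(S.εX i : ℝ) * ((2 * (χ : G → ℂ) x + 1) * (χ : G → ℂ) x).re := fun x hx => by
      simp only [F]
      rw [hχ'v x hx, hηv x hx, hxval i hi x hx]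
      have h4 : ((χ : G → ℂ) x - (-1 - (χ : G → ℂ) x)) * -(χ : G → ℂ) x * conj ((S.εX i : ℤ) : ℂ) =
          ((-(S.εX i : ℝ) : ℝ) : ℂ) * ((2 * (χ : G → ℂ) x + 1) * (χ : G → ℂ) x) := by
        rw [map_intCast]; push_cast; ring
      rw [h4, Complex.re_ofReal_mul]
    rw [Finset.sum_congr rfl fun x hx => hFP x (Finset.ne_of_mem_erase hx), ← Finset.mul_sum,
      hsum (fun x => ((2 * (χ : G → ℂ) x + 1) * (χ : G → ℂ) x).re)
        fun α x => by rw [h.val_conj α.2 x]] at h3
    have hs0 := him hev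
    have ht0 : ((χ : G → ℂ) (v : G)).im = 0 := by
      have := congrArg Complex.im hst
      simp [hs0] at this
      exact this
    have hre := congrArg Complex.re hst
    simp at hre
    simp only [Complex.normSq_apply, hs0, ht0, mul_zero, add_zero] at hnsq
    simp only [Complex.mul_re, Complex.mul_im, Complex.add_re, Complex.add_im, Complex.one_re,
      Complex.one_im, Complex.re_ofNat, Complex.im_ofNat, hs0, ht0, mul_zero, zero_mul, add_zero,
      sub_zero] at h3
    have hcardG : (Nat.card G : ℝ) ≠ 0 := Nat.cast_ne_zero.2 Nat.card_pos.ne'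
    have hep : ((e * p : ℕ) : ℝ) ≠ 0 := Nat.cast_ne_zero.2 (Nat.mul_pos (by omega) hp.out.pos).ne'
    have hp' : (p : ℝ) = 2 * (e : ℝ) + 1 := by rw [← h.hpe]; push_cast; ring
    have h5 : ((j : ℝ) - k) = ((- S.εX i : ℤ) : ℝ) := by
      refine mul_left_cancel₀ hcardG (mul_left_cancel₀ hep ?_)
      push_cast at h3 ⊢
      linear_combination h3 - (Nat.card G : ℝ) * (S.εX i : ℝ) * (e : ℝ) * (2 * hnsq + hre - hp')
    exact_mod_cast h5
  have hbp : ∀ i ∈ Xp, classInner (fun g => (χ' : G → ℂ) g * (η : G → ℂ) g) (i : G → ℂ) ≠ 0 := by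
    intro i hi
    obtain ⟨hi1, hi2⟩ := Finset.mem_filter.1 hi
    obtain ⟨j, k, -, hk, hjk⟩ := hkey i (hmemX i hi1)
    rw [hk, Nat.cast_ne_zero]
    rw [hi2] at hjk
    omega
  have hbm : ∀ i ∈ Xm, classInner (fun g => (χ : G → ℂ) g * (η : G → ℂ) g) (i : G → ℂ) ≠ 0 := by
    intro i hi
    obtain ⟨j, k, hj, -, hjk⟩ := hkey i (hmemX i (Finset.mem_filter.1 hi).1)
    rw [hj, Nat.cast_ne_zero]
    rw [hmεm i hi] at hjk
    omega
  have hN : ∀ χ₁ : IrrCharacter G, H12.degree (χ₁ : G → ℂ) = e →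
      (χ₁ : G → ℂ) 1 * (η : G → ℂ) 1 = ((e * (e + 1) : ℕ) : ℂ) := fun χ₁ h1 => by
    rw [H12.irr_apply_one, H12.irr_apply_one, h1, hηd]; push_cast; ring
  obtain ⟨hup, hupe⟩ := sum_degree_le (H12.IsCharacter.mul (H12.isCharacter_irr χ')
    (H12.isCharacter_irr η)) Xp hbp (hN χ' hdeg')
  obtain ⟨hum, -⟩ := sum_degree_le (H12.IsCharacter.mul (H12.isCharacter_irr χ)
    (H12.isCharacter_irr η)) Xm hbm (hN χ h.degree_eq)
  have hlp : Xp.card * (2 * e + 2) ≤ ∑ i ∈ Xp, H12.degree (i : G → ℂ) := by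
    rw [← smul_eq_mul]
    exact Finset.card_nsmul_le_sum _ _ _ fun i hi => by
      rcases hdegp i hi with h1 | h1 <;> omega
  have hlm : Xm.card * (2 * e) ≤ ∑ i ∈ Xm, H12.degree (i : G → ℂ) := by
    rw [← smul_eq_mul]
    exact Finset.card_nsmul_le_sum _ _ _ fun i hi => by
      rcases hdegm i hi with h1 | h1 <;> omega
  obtain ⟨m, hm⟩ := hev
  have ha : Xp.card ≤ m := by
    by_contra hc
    have h1 : (m + 1) * (2 * e + 2) ≤ Xp.card * (2 * e + 2) := Nat.mul_le_mul_right _ (by omega)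
    nlinarith
  have hb : Xm.card ≤ m := by
    by_contra hc
    have h1 : (m + 1) * (2 * e) ≤ Xm.card * (2 * e) := Nat.mul_le_mul_right _ (by omega)
    nlinarith
  have ha' : Xp.card = m := by omega
  have hb' : Xm.card = m := by omega
  have hexp : ∀ i ∈ Xp, H12.degree (i : G → ℂ) = 2 * e + 2 := by
    intro i hi
    refine (hdegp i hi).resolve_right fun h1 => ?_
    have h2 : (Xp.erase i).card * (2 * e + 2) ≤ ∑ j ∈ Xp.erase i, H12.degree (j : G → ℂ) := by
      rw [← smul_eq_mul]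
      exact Finset.card_nsmul_le_sum _ _ _ fun j hj => by
        rcases hdegp j (Finset.mem_of_mem_erase hj) with h3 | h3 <;> omega
    rw [← Finset.add_sum_erase _ _ hi] at hup
    have h4 := Finset.card_erase_add_one hi
    nlinarith
  have hexm : ∀ i ∈ Xm, H12.degree (i : G → ℂ) = 2 * e := by
    intro i hi
    refine (hdegm i hi).resolve_right fun h1 => ?_
    have h2 : (Xm.erase i).card * (2 * e) ≤ ∑ j ∈ Xm.erase i, H12.degree (j : G → ℂ) := by
      rw [← smul_eq_mul]
      exact Finset.card_nsmul_le_sum _ _ _ fun j hj => by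
        rcases hdegm j (Finset.mem_of_mem_erase hj) with h3 | h3 <;> omega
    rw [← Finset.add_sum_erase _ _ hi] at hum
    have h4 := Finset.card_erase_add_one hi
    nlinarith
  have hsp : ∑ i ∈ Xp, H12.degree (i : G → ℂ) = e * (e + 1) := by
    rw [Finset.sum_congr rfl hexp, Finset.sum_const, smul_eq_mul, ha', hm]; ring
  intro x x' hx hx' y hy
  have hplus : ∑ i ∈ Xp, (i : G → ℂ) y = (χ : G → ℂ) y * (η : G → ℂ) y := by
    rw [← hupe hsp y]
    simp [hreg y hy]
  have hminus : ∑ i ∈ Xm, (i : G → ℂ) y =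
      (χ : G → ℂ) y * (η : G → ℂ) y - (χ : G → ℂ) y := by
    have h1 := S.rel χ (by rw [hY]; exact Or.inl rfl) ⟨y, hy⟩
    rw [finsum_mem_eq_finite_toFinset_sum _ S.X.toFinite] at h1
    simp only at h1
    rw [hε, Int.cast_one, one_mul, ← Finset.sum_filter_add_sum_filter_not S.X.toFinite.toFinset
      (fun i => S.εX i = 1), ← hXp, ← hXm,
      Finset.sum_congr rfl (s₁ := Xp) (g := fun i : IrrCharacter G => (i : G → ℂ) y) fun i hi => by
        rw [(Finset.mem_filter.1 hi).2, Int.cast_one, one_mul],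
      Finset.sum_congr rfl (s₁ := Xm) (g := fun i : IrrCharacter G => -(i : G → ℂ) y) fun i hi => by
        rw [hmεm i hi]; simp,
      Finset.sum_neg_distrib, hplus] at h1
    linear_combination h1
  have hset : (D.supp θ).toFinset = S.X.toFinite.toFinset ∪ {χ, χ'} := by
    ext i
    rw [Set.mem_toFinset, ← D.union_eq_supp S, hY]
    simp
  have hdis : Disjoint S.X.toFinite.toFinset ({χ, χ'} : Finset (IrrCharacter G)) := by
    rw [Finset.disjoint_left]
    intro i hi hi'
    refine Set.disjoint_left.1 S.disj ((Set.Finite.mem_toFinset _).1 hi) ?_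
    rw [hY]
    simpa using hi'
  have hsq : ∀ i ∈ S.X, (S.εX i : ℂ) * (S.εX i : ℂ) = 1 := fun i hi => by
    rcases S.εX_eq i hi with h1 | h1 <;> rw [h1] <;> norm_num
  rw [blockSum, hset, Finset.sum_union hdis,
    ← Finset.sum_filter_add_sum_filter_not S.X.toFinite.toFinset (fun i => S.εX i = 1), ← hXp,
    ← hXm,
    Finset.sum_congr rfl (s₁ := Xp)
      (g := fun i : IrrCharacter G => conj ((i : G → ℂ) y) / (2 * (e : ℂ) + 2)) fun i hi => by
      have hiX := hmemX i (Finset.mem_filter.1 hi).1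
      rw [hxval i hiX x hx, hxval i hiX x' hx', hsq i hiX, one_mul, H12.irr_apply_one, hexp i hi]
      push_cast; rfl,
    Finset.sum_congr rfl (s₁ := Xm)
      (g := fun i : IrrCharacter G => conj ((i : G → ℂ) y) / (2 * (e : ℂ))) fun i hi => by
      have hiX := hmemX i (Finset.mem_filter.1 hi).1
      rw [hxval i hiX x hx, hxval i hiX x' hx', hsq i hiX, one_mul, H12.irr_apply_one, hexm i hi]
      push_cast; rfl,
    Finset.sum_pair hne, ← Finset.sum_div, ← Finset.sum_div, ← map_sum, ← map_sum, hplus, hminus,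
    hχ'v x hx, hχ'v x' hx', H12.irr_apply_one, H12.irr_apply_one, h.degree_eq, hdeg', ← hreg y hy]
  ring

end Half

end H15.HalfDeg
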