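import Cfsg.Agent.H15.HalfDeg.Frame

/-!
Half degree (helper15): the values on the Sylow subgroup and the exceptional pairs of all blocks.
-/

set_option autoImplicit false
set_option linter.style.haveILetI false
set_option linter.unusedSectionVars false

open Cfsg
open scoped ComplexConjugate

namespace H15.HalfDeg

open H85.D1

universe u

variable {G : Type u} [Group G] [Fintype G] {p : ℕ} [hp : Fact p.Prime]
  {P : Sylow p G} {u a : G} {H : Subgroup G} [Fintype H] {D : Setting P u a H}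
  [Fintype (D.aut (H12.oneIrr H))] {e : ℕ} {χ : IrrCharacter G} {θ : IrrCharacter H}
  {ψ : (P : Subgroup G) →* ℂˣ}

/-- A nontrivial automorphism of a group of prime order fixes only `1`. -/
theorem eq_one_of_fixed {A : Type*} [Group A] [Fintype A] (hA : Nat.card A = p) {α : MulAut A} (hα : α ≠ 1)
    {y : A} (hy : α y = y) : y = 1 := by
  by_contra hne
  refine hα (MulEquiv.ext fun x => ?_)
  obtain ⟨i, rfl⟩ := zpowers_top hA hne x
  rw [map_zpow, hy, MulAut.one_apply]

namespace Half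

variable (h : Half D e χ θ ψ)
include h

theorem central_le : H ≤ Subgroup.center G := h.center_eq.le

theorem val_conj {α : MulAut (P : Subgroup G)} (hα : α ∈ D.aut (H12.oneIrr H))
    (x : (P : Subgroup G)) : (χ : G → ℂ) (α x : (P : Subgroup G)) = (χ : G → ℂ) x := by
  obtain ⟨t, -, ht⟩ := D.mem_aut_iff.1 hα
  rw [ht]
  exact H12.irr_isClassFunction χ _ t

theorem sum_erase [Fintype (P : Subgroup G)] [DecidableEq (P : Subgroup G)] :
    ∑ x ∈ Finset.univ.erase (1 : (P : Subgroup G)), (χ : G → ℂ) x = -(e : ℂ) := by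
  classical
  rw [Finset.sum_congr rfl fun x hx => h.val x (Finset.ne_of_mem_erase hx), Finset.sum_comm,
    Finset.sum_congr rfl fun (α : D.aut (H12.oneIrr H)) _ => show
      ∑ x ∈ Finset.univ.erase (1 : (P : Subgroup G)),
        (ψ ((α : MulAut (P : Subgroup G)) x) : ℂ) = -1 from
      sum_erase_one_lin (ψ := twist ψ α) (mt twist_eq_one_iff.1 h.psi_ne), Finset.sum_const,
    Finset.card_univ, ← Nat.card_eq_fintype_card, h.card_aut, nsmul_eq_mul]
  ring

theorem sum_erase_mul_conj [Fintype (P : Subgroup G)] [DecidableEq (P : Subgroup G)] :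
    ∑ x ∈ Finset.univ.erase (1 : (P : Subgroup G)), (χ : G → ℂ) x * conj ((χ : G → ℂ) x) =
      (e : ℂ) * ((e : ℂ) + 1) := by
  classical
  have key : ∀ α β : D.aut (H12.oneIrr H), ∑ x ∈ Finset.univ.erase (1 : (P : Subgroup G)),
      (twist ψ α x : ℂ) * conj (twist ψ β x : ℂ) = (if α = β then (p : ℂ) else 0) - 1 := by
    intro α β
    rw [Finset.sum_erase_eq_sub (Finset.mem_univ _), map_one, map_one, Units.val_one, map_one,
      mul_one, Finset.sum_congr rfl fun x _ => mul_comm (twist ψ α x : ℂ) _,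
      H20.sum_conj_mul_lin]
    congr 1
    rw [D.hP]
    exact if_congr (twist_injective D.hP h.psi_ne).eq_iff rfl rfl
  rw [Finset.sum_congr rfl (g := fun x => ∑ α : D.aut (H12.oneIrr H), ∑ β : D.aut (H12.oneIrr H),
      (twist ψ α x : ℂ) * conj (twist ψ β x : ℂ)) fun x hx => by
        rw [h.val x (Finset.ne_of_mem_erase hx), map_sum, Finset.sum_mul_sum]
        exact Finset.sum_congr rfl fun α _ => Finset.sum_congr rfl fun β _ => by
          rw [twist_apply, twist_apply],
    Finset.sum_comm, Finset.sum_congr rfl fun α _ => Finset.sum_comm,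
    Finset.sum_congr rfl fun α _ => Finset.sum_congr rfl fun β _ => key α β]
  simp only [Finset.sum_sub_distrib, Finset.sum_ite_eq, Finset.mem_univ, if_true, Finset.sum_const,
    Finset.card_univ, ← Nat.card_eq_fintype_card, h.card_aut, nsmul_eq_mul]
  rw [← h.hpe]
  push_cast
  ring

/-- The two orbits on the nontrivial elements of `P`. -/
theorem exists_orbits [Fintype (P : Subgroup G)] [DecidableEq (P : Subgroup G)] :
    ∃ v : (P : Subgroup G), v ≠ 1 ∧
      (∀ α : D.aut (H12.oneIrr H), (α : MulAut (P : Subgroup G)) ⟨u, D.u_mem⟩ ≠ v) ∧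
      (∀ x : (P : Subgroup G), x ≠ 1 →
        (∀ α : D.aut (H12.oneIrr H), (α : MulAut (P : Subgroup G)) ⟨u, D.u_mem⟩ ≠ x) →
        ∃ α : D.aut (H12.oneIrr H), (α : MulAut (P : Subgroup G)) v = x) ∧
      ∀ {R : Type} [AddCommMonoid R] (F : ↥(P : Subgroup G) → R),
        (∀ α : D.aut (H12.oneIrr H), ∀ x, F ((α : MulAut (P : Subgroup G)) x) = F x) →
        ∑ x ∈ Finset.univ.erase (1 : (P : Subgroup G)), F x = e • F ⟨u, D.u_mem⟩ + e • F v := by
  classical
  set u₁ : (P : Subgroup G) := ⟨u, D.u_mem⟩ with hu₁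
  have hu1 : u₁ ≠ 1 := fun h' => D.u_ne_one (congrArg Subtype.val h')
  have hinj : ∀ y : (P : Subgroup G), y ≠ 1 → Function.Injective
      (fun α : D.aut (H12.oneIrr H) => (α : MulAut (P : Subgroup G)) y) := by
    intro y hy α β hab
    refine Subtype.ext (MulEquiv.ext fun x => ?_)
    obtain ⟨i, rfl⟩ := zpowers_top D.hP hy x
    rw [map_zpow, map_zpow]
    exact congrArg (· ^ i) hab
  let O : ↥(P : Subgroup G) → Finset (P : Subgroup G) := fun y =>
    Finset.univ.image fun α : D.aut (H12.oneIrr H) => (α : MulAut (P : Subgroup G)) y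
  have hcard : ∀ y, y ≠ 1 → (O y).card = e := fun y hy => by
    rw [Finset.card_image_of_injective _ (hinj y hy), Finset.card_univ, ← Nat.card_eq_fintype_card,
      h.card_aut]
  have hsub : ∀ y, y ≠ 1 → O y ⊆ Finset.univ.erase 1 := fun y hy z hz => by
    obtain ⟨α, -, rfl⟩ := Finset.mem_image.1 hz
    exact Finset.mem_erase.2 ⟨fun h' => hy ((map_eq_one_iff _ (MulEquiv.injective _)).1 h'),
      Finset.mem_univ _⟩
  have hE : (Finset.univ.erase (1 : (P : Subgroup G))).card = 2 * e := by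
    rw [Finset.card_erase_of_mem (Finset.mem_univ _), Finset.card_univ, ← Nat.card_eq_fintype_card,
      D.hP, ← h.hpe, Nat.add_sub_cancel]
  obtain ⟨v, hv, hvO⟩ := Finset.exists_mem_notMem_of_card_lt_card
    (s := O u₁) (t := Finset.univ.erase (1 : (P : Subgroup G)))
    (by rw [hcard u₁ hu1, hE]; have := h.two_le; omega)
  have hv1 : v ≠ 1 := Finset.ne_of_mem_erase hv
  have hdisj : Disjoint (O u₁) (O v) := by
    rw [Finset.disjoint_left]
    intro z hz hz'
    obtain ⟨α, -, rfl⟩ := Finset.mem_image.1 hz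
    obtain ⟨β, -, hβ⟩ := Finset.mem_image.1 hz'
    refine hvO (Finset.mem_image.2 ⟨β⁻¹ * α, Finset.mem_univ _, ?_⟩)
    rw [Subgroup.coe_mul, Subgroup.coe_inv, MulAut.mul_apply, ← hβ, MulAut.inv_apply_self]
  have huni : O u₁ ∪ O v = Finset.univ.erase 1 := by
    refine Finset.eq_of_subset_of_card_le (Finset.union_subset (hsub u₁ hu1) (hsub v hv1)) ?_
    rw [Finset.card_union_of_disjoint hdisj, hcard u₁ hu1, hcard v hv1, hE]
    omega
  refine ⟨v, hv1, fun α hα => hvO (Finset.mem_image.2 ⟨α, Finset.mem_univ _, hα⟩),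
    fun x hx hno => ?_, fun F hF => ?_⟩
  · rcases Finset.mem_union.1 (huni.symm ▸ Finset.mem_erase.2 ⟨hx, Finset.mem_univ x⟩ :
      x ∈ O u₁ ∪ O v) with h1 | h1
    · obtain ⟨α, -, hα⟩ := Finset.mem_image.1 h1
      exact absurd hα (hno α)
    · obtain ⟨α, -, hα⟩ := Finset.mem_image.1 h1
      exact ⟨α, hα⟩
  · rw [← huni, Finset.sum_union hdisj, Finset.sum_image fun α _ β _ hab => hinj u₁ hu1 hab,
      Finset.sum_image fun α _ β _ hab => hinj v hv1 hab,
      Finset.sum_congr rfl fun (α : D.aut (H12.oneIrr H)) _ => hF α u₁,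
      Finset.sum_congr rfl fun (α : D.aut (H12.oneIrr H)) _ => hF α v,
      Finset.sum_const, Finset.sum_const, Finset.card_univ, ← Nat.card_eq_fintype_card, h.card_aut]

/-- The two periods: their sum and their norms. -/
theorem exists_periods : ∃ v : (P : Subgroup G), v ≠ 1 ∧
    (χ : G → ℂ) u + (χ : G → ℂ) v = -1 ∧
    Complex.normSq ((χ : G → ℂ) u) + Complex.normSq ((χ : G → ℂ) v) = (e : ℝ) + 1 ∧
    (Even e → ((χ : G → ℂ) u).im = 0) ∧
    (Odd e → Complex.normSq ((χ : G → ℂ) u) = Complex.normSq ((χ : G → ℂ) v)) ∧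
    ∀ F : ↥(P : Subgroup G) → ℝ,
      (∀ α : D.aut (H12.oneIrr H), ∀ x, F ((α : MulAut (P : Subgroup G)) x) = F x) →
      ∀ [Fintype (P : Subgroup G)] [DecidableEq (P : Subgroup G)],
      ∑ x ∈ Finset.univ.erase (1 : (P : Subgroup G)), F x =
        (e : ℝ) * (F ⟨u, D.u_mem⟩ + F v) := by
  classical
  haveI : Fintype (P : Subgroup G) := Fintype.ofFinite _
  obtain ⟨v, hv1, hvu, hcov, hsum⟩ := h.exists_orbits
  have he0 : (e : ℂ) ≠ 0 := Nat.cast_ne_zero.2 (by have := h.two_le; omega)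
  have h1 : (χ : G → ℂ) u + (χ : G → ℂ) v = -1 := by
    have := hsum (fun x => (χ : G → ℂ) x) fun α x => h.val_conj α.2 x
    rw [h.sum_erase, nsmul_eq_mul, nsmul_eq_mul, ← mul_add] at this
    exact mul_left_cancel₀ he0 (by rw [mul_neg_one]; exact this.symm)
  have h2 : (Complex.normSq ((χ : G → ℂ) u) : ℂ) + Complex.normSq ((χ : G → ℂ) v) =
      (e : ℂ) + 1 := by
    have := hsum (fun x => (χ : G → ℂ) x * conj ((χ : G → ℂ) x))
      fun α x => by rw [h.val_conj α.2 x]
    rw [h.sum_erase_mul_conj, nsmul_eq_mul, nsmul_eq_mul, ← mul_add] at this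
    rw [← Complex.mul_conj, ← Complex.mul_conj]
    exact mul_left_cancel₀ he0 this.symm
  have hu' : (⟨u, D.u_mem⟩ : (P : Subgroup G)) ≠ 1 :=
    fun h' => D.u_ne_one (congrArg Subtype.val h')
  refine ⟨v, hv1, h1, by exact_mod_cast h2, fun hev => ?_, fun hodd => ?_,
    fun F hF _ _ => by rw [← nsmul_eq_mul, nsmul_add]; convert hsum F hF⟩
  · haveI : Fact (Nat.Prime 2) := ⟨Nat.prime_two⟩
    obtain ⟨α, hα⟩ := exists_prime_orderOf_dvd_card' 2
      (G := D.aut (H12.oneIrr H)) (by rw [h.card_aut]; exact hev.two_dvd)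
    have hα1 : (α : MulAut (P : Subgroup G)) ≠ 1 := fun h' => by
      rw [show α = 1 from Subtype.ext h', orderOf_one] at hα; omega
    set u₁ : (P : Subgroup G) := ⟨u, D.u_mem⟩
    have hαα : (α : MulAut (P : Subgroup G)) ((α : MulAut (P : Subgroup G)) u₁) = u₁ := by
      have h3 : α * α = 1 := by rw [← pow_two, ← hα, pow_orderOf_eq_one]
      rw [← MulAut.mul_apply, ← Subgroup.coe_mul, h3, Subgroup.coe_one, MulAut.one_apply]
    have hfix : (α : MulAut (P : Subgroup G)) ((α : MulAut (P : Subgroup G)) u₁ * u₁) =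
        (α : MulAut (P : Subgroup G)) u₁ * u₁ := by
      rw [map_mul, hαα, commOf D.hP]
    have hinv := eq_inv_of_mul_eq_one_left (eq_one_of_fixed D.hP hα1 hfix)
    have h4 := h.val_conj α.2 u₁
    rw [hinv, Subgroup.coe_inv, H12.irr_inv] at h4
    exact Complex.conj_eq_iff_im.1 h4
  · obtain ⟨β, hβ⟩ := hcov (⟨u, D.u_mem⟩⁻¹) (inv_ne_one.2 hu') fun α hα => by
      have hαα : α * α = 1 := by
        refine Subtype.ext (MulEquiv.ext fun x => ?_)
        obtain ⟨i, rfl⟩ := zpowers_top D.hP hu' x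
        rw [Subgroup.coe_mul, MulAut.mul_apply, map_zpow, map_zpow, hα, map_inv, hα, inv_inv,
          Subgroup.coe_one, MulAut.one_apply]
      have h5 : orderOf α ∣ 2 := orderOf_dvd_of_pow_eq_one (by rw [pow_two, hαα])
      have h6 : orderOf α ∣ e := h.card_aut ▸ orderOf_dvd_natCard α
      have h7 : orderOf α = 1 := by
        rcases (Nat.dvd_prime Nat.prime_two).1 h5 with h8 | h8
        · exact h8
        · exact absurd (h8 ▸ h6) hodd.not_two_dvd_nat
      rw [orderOf_eq_one_iff.1 h7, Subgroup.coe_one, MulAut.one_apply] at hα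
      have h9 : u * u = 1 := by
        have := congrArg Subtype.val hα
        rw [Subgroup.coe_inv] at this
        exact mul_eq_one_iff_eq_inv.2 this
      have h10 := Nat.le_of_dvd two_pos (orderOf_dvd_of_pow_eq_one (show u ^ 2 = 1 by rw [pow_two, h9]))
      rw [D.frame.orderOf_u] at h10
      have := h.hpe; have := h.two_le
      omega
    have h11 := h.val_conj β.2 v
    rw [hβ, Subgroup.coe_inv, H12.irr_inv] at h11
    rw [← h11, Complex.normSq_conj]

/-- The fourth moment on `P`. -/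
theorem sum_fourth [Fintype (P : Subgroup G)] [DecidableEq (P : Subgroup G)] :
    2 * ∑ x ∈ Finset.univ.erase (1 : (P : Subgroup G)),
      (Complex.normSq ((χ : G → ℂ) x) ^ 2 - Complex.normSq ((χ : G → ℂ) x)) =
      (e : ℝ) * (2 * (p : ℝ) * ((e / 2 : ℕ) : ℝ) - (e : ℝ) * ((e : ℝ) - 1)) := by
  obtain ⟨v, -, h1, h2, heven, hodd, hsum⟩ := h.exists_periods
  rw [hsum (fun x => Complex.normSq ((χ : G → ℂ) x) ^ 2 - Complex.normSq ((χ : G → ℂ) x))
    fun α x => by rw [h.val_conj α.2 x]]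
  simp only
  set s := (χ : G → ℂ) u
  set t := (χ : G → ℂ) (v : G)
  have hp' : (p : ℝ) = 2 * (e : ℝ) + 1 := by rw [← h.hpe]; push_cast; ring
  rcases Nat.even_or_odd' e with ⟨m, hm | hm⟩
  · have hsim := heven ⟨m, by omega⟩
    have htim : t.im = 0 := by
      have := congrArg Complex.im h1
      simp [hsim] at this
      exact this
    have hre := congrArg Complex.re h1
    simp at hre
    rw [show e / 2 = m by omega, hp']
    simp only [Complex.normSq_apply, hsim, htim] at h2 ⊢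
    have hst : 2 * (s.re * t.re) = -(e : ℝ) := by
      nlinarith [congrArg (fun z : ℝ => z * z) hre]
    have hem : (e : ℝ) = 2 * m := by exact_mod_cast hm
    rw [hem] at hst h2 ⊢
    linear_combination (2 * (2 * (m : ℝ))) * (s.re * s.re + t.re * t.re + (2 * m + 1) - 1) * h2 -
      (2 * (2 * (m : ℝ))) * (s.re * t.re - m) * hst
  · have hsq := hodd ⟨m, by omega⟩
    rw [← hsq] at h2
    rw [show e / 2 = m by omega, hp', ← hsq]
    have hem : (e : ℝ) = 2 * m + 1 := by exact_mod_cast hm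
    rw [hem] at h2 ⊢
    linear_combination (2 * (2 * (m : ℝ) + 1)) * (Complex.normSq s + m + 1 - 1) * h2

/-- The exceptional pair of every block. -/
theorem exists_pair {M : Ideal AlgInt} [M.IsPrime] (hM : IsPModular p M) (φ : IrrCharacter H)
    [Fintype (P : Subgroup G)] [Fintype (D.aut φ)]
    (S : Shape p (D.aut φ) (fun (χ : IrrCharacter G) (x : (P : Subgroup G)) => D.col φ χ x)
      (fun (χ : IrrCharacter G) (g : {g : G // ¬ p ∣ orderOf g}) => (χ : G → ℂ) g)) :
    ∃ η η' : IrrCharacter G, η ≠ η' ∧ S.Y = {η, η'} ∧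
      (∀ (x : (P : Subgroup G)), x ≠ 1 →
        (η : G → ℂ) x = (S.ε : ℂ) * (χ : G → ℂ) x) ∧
      ∀ (x : (P : Subgroup G)), x ≠ 1 →
        (η' : G → ℂ) x = (S.ε : ℂ) * (-1 - (χ : G → ℂ) x) := by
  classical
  haveI : Finite ((P : Subgroup G) →* ℂˣ) := H20.finite_dual
  haveI : Fintype ((P : Subgroup G) →* ℂˣ) := Fintype.ofFinite _
  have hA := commOf (A := (P : Subgroup G)) D.hP
  have hH := h.central_le
  let R : ((P : Subgroup G) →* ℂˣ) → Finset ((P : Subgroup G) →* ℂˣ) := fun ξ =>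
    Finset.univ.image fun α : D.aut (H12.oneIrr H) => twist ξ α
  have hR : ∀ ξ, ξ ≠ 1 → (R ξ).card = e ∧ R ξ ⊆ Finset.univ.erase 1 := fun ξ hξ => by
    refine ⟨by rw [Finset.card_image_of_injective _ (twist_injective D.hP hξ), Finset.card_univ,
      ← Nat.card_eq_fintype_card, h.card_aut], fun z hz => ?_⟩
    obtain ⟨α, -, rfl⟩ := Finset.mem_image.1 hz
    exact Finset.mem_erase.2 ⟨mt twist_eq_one_iff.1 hξ, Finset.mem_univ _⟩
  have hdual : Fintype.card ((P : Subgroup G) →* ℂˣ) = p :=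
    (by exact_mod_cast H20.card_dual hA : Fintype.card ((P : Subgroup G) →* ℂˣ) =
      Nat.card (P : Subgroup G)).trans D.hP
  have hE : (Finset.univ.erase (1 : (P : Subgroup G) →* ℂˣ)).card = 2 * e := by
    rw [Finset.card_erase_of_mem (Finset.mem_univ _), Finset.card_univ, hdual, ← h.hpe,
      Nat.add_sub_cancel]
  obtain ⟨ψ', hψ', hψ'R⟩ := Finset.exists_mem_notMem_of_card_lt_card
    (s := R ψ) (t := Finset.univ.erase (1 : (P : Subgroup G) →* ℂˣ))
    (by rw [(hR ψ h.psi_ne).1, hE]; have := h.two_le; omega)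
  have hψ'1 : ψ' ≠ 1 := Finset.ne_of_mem_erase hψ'
  have hdisj : Disjoint (R ψ) (R ψ') := by
    rw [Finset.disjoint_left]
    intro z hz hz'
    obtain ⟨α, -, rfl⟩ := Finset.mem_image.1 hz
    obtain ⟨β, -, hβ⟩ := Finset.mem_image.1 hz'
    refine hψ'R (Finset.mem_image.2 ⟨α * β⁻¹, Finset.mem_univ _, MonoidHom.ext fun x => ?_⟩)
    have h2 := DFunLike.congr_fun hβ (((β : MulAut (P : Subgroup G))⁻¹) x)
    rw [twist_apply, twist_apply, MulAut.apply_inv_self] at h2
    rw [twist_apply, h2, Subgroup.coe_mul, Subgroup.coe_inv, MulAut.mul_apply]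
  have huni : R ψ ∪ R ψ' = Finset.univ.erase 1 := by
    refine Finset.eq_of_subset_of_card_le
      (Finset.union_subset (hR ψ h.psi_ne).2 (hR ψ' hψ'1).2) ?_
    rw [Finset.card_union_of_disjoint hdisj, (hR ψ h.psi_ne).1, (hR ψ' hψ'1).1, hE]
    omega
  have hcomp : ∀ x : (P : Subgroup G), x ≠ 1 →
      ∑ α : D.aut (H12.oneIrr H), (ψ' ((α : MulAut (P : Subgroup G)) x) : ℂ) =
        -1 - (χ : G → ℂ) x := by
    intro x hx
    have h1 : ∑ ξ ∈ Finset.univ.erase (1 : (P : Subgroup G) →* ℂˣ), (ξ x : ℂ) = -1 := by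
      rw [Finset.sum_erase_eq_sub (Finset.mem_univ _), H20.sum_dual_ne_one hA hx]
      simp
    rw [← huni, Finset.sum_union hdisj,
      Finset.sum_image fun α _ β _ hab => twist_injective D.hP h.psi_ne hab,
      Finset.sum_image fun α _ β _ hab => twist_injective D.hP hψ'1 hab] at h1
    simp only [twist_apply] at h1
    rw [h.val x hx]
    linear_combination h1
  obtain ⟨η, hη, hcol⟩ := S.surjY ψ h.psi_ne
  obtain ⟨η', hη', hcol'⟩ := S.surjY ψ' hψ'1
  have hsupp : ∀ i ∈ S.Y, i ∈ D.supp φ := fun i hi => (D.union_eq_supp S).subset (Or.inr hi)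
  have hv : ∀ x : (P : Subgroup G), x ≠ 1 → (η : G → ℂ) x = (S.ε : ℂ) * (χ : G → ℂ) x := fun x hx => by
    rw [apply_eq_col D hH hM (hsupp η hη) x.2 (fun h' => hx (Subtype.ext h')), hcol x hx,
      sum_aut_eq D hH φ (fun α => (ψ (α x) : ℂ)), h.val x hx]
  have hv' : ∀ x : (P : Subgroup G), x ≠ 1 →
      (η' : G → ℂ) x = (S.ε : ℂ) * (-1 - (χ : G → ℂ) x) := fun x hx => by
    rw [apply_eq_col D hH hM (hsupp η' hη') x.2 (fun h' => hx (Subtype.ext h')), hcol' x hx,
      sum_aut_eq D hH φ (fun α => (ψ' (α x) : ℂ)), hcomp x hx]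
  have hne : η ≠ η' := by
    intro hee
    subst hee
    have hε0 : (S.ε : ℂ) ≠ 0 := by rcases S.ε_eq with h' | h' <;> rw [h'] <;> norm_num
    have hhalf : ∀ x : (P : Subgroup G), x ≠ 1 → (χ : G → ℂ) x = -(1 / 2) := fun x hx => by
      have := mul_left_cancel₀ hε0 ((hv x hx).symm.trans (hv' x hx))
      linear_combination this / 2
    have h1 := h.sum_erase_mul_conj
    rw [Finset.sum_congr rfl fun x hx => by rw [hhalf x (Finset.ne_of_mem_erase hx)],
      Finset.sum_const, Finset.card_erase_of_mem (Finset.mem_univ _), Finset.card_univ,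
      ← Nat.card_eq_fintype_card, D.hP, ← h.hpe, Nat.add_sub_cancel, nsmul_eq_mul] at h1
    simp [map_ofNat] at h1
    have h2 : (e : ℂ) * (2 * (e : ℂ) + 1) = 0 := by linear_combination -2 * h1
    have h3 : e * (2 * e + 1) = 0 := by exact_mod_cast h2
    have := h.two_le
    rcases Nat.mul_eq_zero.1 h3 with h4 | h4 <;> omega
  refine ⟨η, η', hne, ?_, hv, hv'⟩
  have hY := S.card_Y
  rw [show Nat.card (D.aut φ) = e by rw [aut_eq D hH φ, h.card_aut], Nat.card_coe_set_eq] at hY
  have hY2 : S.Y.ncard = 2 := by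
    have h1 : S.Y.ncard * e = 2 * e := by have := h.hpe; omega
    exact Nat.eq_of_mul_eq_mul_right (by have := h.two_le; omega) h1
  refine (Set.eq_of_subset_of_ncard_le (Set.insert_subset hη (Set.singleton_subset_iff.2 hη')) ?_
    (Set.toFinite _)).symm
  rw [hY2, Set.ncard_pair hne]

end Half

end H15.HalfDeg
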